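import Groth.Agent.DRing.K230.DCAdic
import Mathlib.RingTheory.Ideal.Quotient.Operations
import Mathlib.RingTheory.Regular.RegularSequence

/-!
# More on derived complete modules

* `exists_pow_smul_eq_bot` : `I`-power torsion derived complete modules are killed by a power of `I` (`I` f.g.).
* `iInf_smul_iInf_eq_bot` : `⋂ f^n A` kills `⋂ f^n M`.
* `iInf_pow_pow_eq_bot` : `(⋂ I^n)^(2^r) = 0` if `A` is derived complete with respect to `I = (f_1, …, f_r)`.
* `dc_of_isAdicComplete`.
-/

set_option autoImplicit false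

namespace K230.DCMore

open K230.DCSeq K230.DCAdic

variable {A : Type*} [CommRing A] {M : Type*} [AddCommGroup M] [Module A M]

section Torsion

/-- the submodule `f^n M` -/
def F (f : A) (M : Type*) [AddCommGroup M] [Module A M] (n : ℕ) : Submodule A M :=
  LinearMap.range (LinearMap.lsmul A M (f ^ n))

lemma mem_F {f : A} {n : ℕ} {x : M} : x ∈ F f M n ↔ ∃ y : M, f ^ n • y = x := Iff.rfl

lemma F_anti (f : A) {m n : ℕ} (h : m ≤ n) : F f M n ≤ F f M m := by
  rintro x ⟨y, rfl⟩
  obtain ⟨k, rfl⟩ := Nat.exists_eq_add_of_le h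
  exact ⟨f ^ k • y, by simp [smul_smul, pow_add, mul_comm]⟩

lemma pow_smul_top_eq_F (f : A) (n : ℕ) : (Ideal.span {f}) ^ n • (⊤ : Submodule A M) = F f M n := by
  ext x
  rw [Ideal.span_singleton_pow, mem_span_singleton_smul, mem_F]
  simp

lemma pow_smul_mem_F (f : A) (n : ℕ) (x : M) : f ^ n • x ∈ F f M n := ⟨x, rfl⟩

/-- a strictly decreasing property -/
lemma exists_not_mem {f : A} (h : DC f M) (hne : ∀ n : ℕ, ∃ m : M, f ^ n • m ≠ 0) (n : ℕ) :
    ∃ (y : M) (m : ℕ), f ^ n • y ∉ F f M m := by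
  by_contra hcon
  push Not at hcon
  have hN : DC f (F f M n) := h.range h _
  have := hN.subsingleton (fun x => by
    obtain ⟨x, y, rfl⟩ := x
    obtain ⟨z, hz⟩ := hcon y (n + 1)
    refine ⟨⟨f ^ n • z, pow_smul_mem_F f n z⟩, Subtype.ext ?_⟩
    change f ^ n • y = f • f ^ n • z
    rw [← hz, smul_smul, ← pow_succ']
    rfl)
  obtain ⟨m, hm⟩ := hne n
  apply hm
  have h2 : (⟨f ^ n • m, pow_smul_mem_F f n m⟩ : F f M n) = 0 := Subsingleton.elim _ _
  exact congrArg Subtype.val h2

theorem exists_pow_smul_eq_zero {f : A} (h : DC f M) (ht : ∀ m : M, ∃ n : ℕ, f ^ n • m = 0) :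
    ∃ n : ℕ, ∀ m : M, f ^ n • m = 0 := by
  by_contra hcon
  push Not at hcon
  have key := exists_not_mem h hcon
  -- step
  have step : ∀ (s : M) (ν k : ℕ), ∃ (s' : M) (ν' : ℕ), ν < ν' ∧ s' - s ∈ F f M ν ∧ f ^ k • s' ∉ F f M ν' := by
    intro s ν k
    by_cases hs : ∀ m, f ^ k • s ∈ F f M m
    · obtain ⟨y, m, hy⟩ := key (k + ν)
      refine ⟨s + f ^ ν • y, max m (ν + 1), by omega, by simpa using pow_smul_mem_F f ν y, fun h' => hy ?_⟩
      have h1 := F_anti f (le_max_left m (ν + 1)) h'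
      rw [smul_add, smul_smul, ← pow_add] at h1
      have h2 := Submodule.sub_mem _ h1 (hs m)
      simpa using h2
    · push Not at hs
      obtain ⟨m, hm⟩ := hs
      exact ⟨s, max m (ν + 1), by omega, by simp, fun h' => hm (F_anti f (le_max_left m (ν + 1)) h')⟩
  choose s' ν' hν' hs' hs'' using step
  let P : ℕ → M × ℕ := fun k => Nat.rec (0, 0) (fun k p => (s' p.1 p.2 k, ν' p.1 p.2 k)) k
  have hP0 : P 0 = (0, 0) := rfl
  have hPs : ∀ k, P (k + 1) = (s' (P k).1 (P k).2 k, ν' (P k).1 (P k).2 k) := fun k => rfl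
  have hlt : ∀ k, (P k).2 < (P (k + 1)).2 := fun k => by rw [hPs]; exact hν' _ _ _
  have hmono : StrictMono (fun k => (P k).2) := strictMono_nat_of_lt_succ hlt
  have hsub : ∀ k, (P (k + 1)).1 - (P k).1 ∈ F f M (P k).2 := fun k => by rw [hPs]; exact hs' _ _ _
  have hnot : ∀ k, f ^ k • (P (k + 1)).1 ∉ F f M (P (k + 1)).2 := fun k => by rw [hPs]; exact hs'' _ _ _
  have hsub' : ∀ k l, (P (k + l)).1 - (P k).1 ∈ F f M (P k).2 := by
    intro k l
    induction l with
    | zero => simp
    | succ l ih =>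
      have h1 := F_anti f (hmono.monotone (Nat.le_add_right k l)) (hsub (k + l))
      have h2 := Submodule.add_mem _ h1 ih
      simpa [add_assoc] using h2
  have hprec : IsPrecomplete (Ideal.span {f}) M :=
    isPrecomplete (I := Ideal.span {f}) ⟨{f}, by simp⟩ (dci_span_singleton_iff.2 h)
  obtain ⟨x, hx⟩ := hprec.prec (f := fun n => (P n).1) (by
    intro m n hmn
    obtain ⟨l, rfl⟩ := Nat.exists_eq_add_of_le hmn
    refine (SModEq.sub_mem.2 ?_).symm
    rw [pow_smul_top_eq_F]
    exact F_anti f (hmono.id_le m) (hsub' m l))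
  have hx' : ∀ k, x - (P k).1 ∈ F f M (P k).2 := by
    intro k
    have hN : k ≤ (P k).2 := hmono.id_le k
    obtain ⟨l, hl⟩ := Nat.exists_eq_add_of_le hN
    have h1 := SModEq.sub_mem.1 (hx (k + l)).symm
    rw [pow_smul_top_eq_F] at h1
    have h2 : F f M (k + l) = F f M (P k).2 := by rw [← hl]
    rw [h2] at h1
    have h3 := Submodule.add_mem _ h1 (hsub' k l)
    simpa using h3
  obtain ⟨n, hn⟩ := ht x
  apply hnot n
  have h4 := Submodule.smul_mem _ (f ^ n) (hx' (n + 1))
  rw [smul_sub, hn, zero_sub] at h4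
  exact (Submodule.neg_mem_iff _).1 h4

theorem exists_pow_smul_eq_bot {I : Ideal A} (hI : I.FG) (h : DCI I M)
    (ht : ∀ m : M, ∃ n : ℕ, ∀ a ∈ I ^ n, a • m = 0) : ∃ n : ℕ, I ^ n • (⊤ : Submodule A M) = ⊥ := by
  have h1 : I ≤ (Module.annihilator A M).radical := by
    intro f hf
    obtain ⟨n, hn⟩ := exists_pow_smul_eq_zero (h f hf) (fun m => by
      obtain ⟨n, hn⟩ := ht m
      exact ⟨n, hn _ (Ideal.pow_mem_pow hf n)⟩)
    exact ⟨n, Module.mem_annihilator.2 hn⟩
  obtain ⟨n, hn⟩ := Ideal.exists_pow_le_of_le_radical_of_fg h1 hI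
  refine ⟨n, ?_⟩
  rw [eq_bot_iff]
  refine Submodule.smul_le.2 fun r hr x _ => ?_
  rw [Submodule.mem_bot]
  exact Module.mem_annihilator.1 (hn hr) x

end Torsion

section IInf

theorem smul_eq_zero_of_divisible {f : A} (h : DC f M) {a : A} (ha : ∀ n : ℕ, ∃ b, f ^ n * b = a) {x : M}
    (hx : ∀ n : ℕ, ∃ y : M, f ^ n • y = x) : a • x = 0 := by
  choose b hb using ha
  choose y hy using hx
  have h1 := h.eq_zero (x := fun n => b n • x) (fun n => by
    rw [smul_smul, ← sub_eq_zero, ← sub_smul, ← hy n, smul_smul]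
    have : (b n - f * b (n + 1)) * f ^ n = 0 := by
      have h2 : (b n - f * b (n + 1)) * f ^ n = f ^ n * b n - f ^ (n + 1) * b (n + 1) := by ring
      rw [h2, hb, hb, sub_self]
    rw [this, zero_smul]) 0
  have h2 : b 0 = a := by simpa using hb 0
  rwa [h2] at h1

theorem iInf_smul_iInf_eq_bot {f : A} (h : DC f M) :
    (⨅ n : ℕ, Ideal.span {f ^ n}) • (⨅ n : ℕ, (Ideal.span {f ^ n}) • (⊤ : Submodule A M)) =
      (⊥ : Submodule A M) := by
  rw [eq_bot_iff]
  refine Submodule.smul_le.2 fun a ha x hx => ?_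
  rw [Submodule.mem_bot]
  refine smul_eq_zero_of_divisible h (fun n => ?_) (mem_iInf_range.1 hx)
  obtain ⟨b, hb⟩ := Ideal.mem_span_singleton.1 ((Ideal.mem_iInf.1 ha) n)
  exact ⟨b, hb.symm⟩

end IInf

section Complete

theorem dc_of_isAdicComplete {I : Ideal A} [IsAdicComplete I M] {f : A} (hf : f ∈ I) : DC f M := by
  have hmem : ∀ (n : ℕ) (x : M), f ^ n • x ∈ I ^ n • (⊤ : Submodule A M) := fun n x =>
    Submodule.smul_mem_smul (Ideal.pow_mem_pow hf n) Submodule.mem_top
  have hsep : ∀ x : M, (∀ n, x ∈ I ^ n • (⊤ : Submodule A M)) → x = 0 := fun x hx =>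
    IsHausdorff.haus (I := I) inferInstance x (fun n => by
      rw [SModEq.zero]; exact hx n)
  constructor
  · intro x y hxy
    have key : ∀ z : ℕ → M, (∀ k, z k = f • z (k + 1)) → ∀ k, z k = 0 := by
      intro z hz k
      refine hsep _ fun n => ?_
      have : ∀ n, z k = f ^ n • z (k + n) := by
        intro n
        induction n with
        | zero => simp
        | succ n ih => rw [ih, hz (k + n), smul_smul, ← pow_succ]; rfl
      rw [this n]
      exact hmem n _
    funext k
    have := key (fun k => x k - y k) (fun k => by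
      have h5 : x k - f • x (k + 1) = y k - f • y (k + 1) := congrFun hxy k
      rw [smul_sub]
      exact sub_eq_sub_iff_sub_eq_sub.1 h5) k
    exact sub_eq_zero.1 this
  · intro b
    let S : ℕ → ℕ → M := fun k n => ∑ i ∈ Finset.range n, f ^ i • b (k + i)
    have hS : ∀ k, ∃ L : M, ∀ n, S k n ≡ L [SMOD (I ^ n • ⊤ : Submodule A M)] := by
      intro k
      refine IsPrecomplete.prec (I := I) inferInstance ?_
      intro m n hmn
      refine (SModEq.sub_mem.2 ?_).symm
      rw [← Finset.sum_Ico_eq_sub _ hmn]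
      refine Submodule.sum_mem _ fun i hi => ?_
      have hi' : m ≤ i := (Finset.mem_Ico.1 hi).1
      exact Submodule.smul_mono_left (Ideal.pow_le_pow_right hi') (hmem i _)
    choose L hL using hS
    refine ⟨L, ?_⟩
    funext k
    change L k - f • L (k + 1) = b k
    rw [← sub_eq_zero]
    refine hsep _ fun n => ?_
    have h1 : L k - S k (n + 1) ∈ I ^ n • (⊤ : Submodule A M) :=
      Submodule.smul_mono_left (Ideal.pow_le_pow_right (Nat.le_succ n)) (SModEq.sub_mem.1 (hL k (n + 1)).symm)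
    have h2 : f • (L (k + 1) - S (k + 1) n) ∈ I ^ n • (⊤ : Submodule A M) :=
      Submodule.smul_mem _ f (SModEq.sub_mem.1 (hL (k + 1) n).symm)
    have h3 : S k (n + 1) = b k + f • S (k + 1) n := by
      simp only [S]
      rw [Finset.sum_range_succ', Finset.smul_sum, add_comm]
      congr 1
      · simp
      · refine Finset.sum_congr rfl fun i _ => ?_
        rw [smul_smul, ← pow_succ']
        have : k + (i + 1) = k + 1 + i := by omega
        rw [this]
    have h4 : L k - f • L (k + 1) - b k = (L k - S k (n + 1)) - f • (L (k + 1) - S (k + 1) n) := by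
      rw [h3, smul_sub]; abel
    rw [h4]
    exact Submodule.sub_mem _ h1 h2

end Complete

section Nilpotent

universe v

lemma dc_quotient_ring {B : Type*} [CommRing B] {g : B} (h : DC g B) (f : B) :
    DC (Ideal.Quotient.mk (Ideal.span {f}) g) (B ⧸ Ideal.span {f}) := by
  have h1 : DC g (B ⧸ LinearMap.range (LinearMap.lsmul B B f)) := h.coker h _
  have h2 : (LinearMap.range (LinearMap.lsmul B B f) : Submodule B B) = Ideal.span {f} := by
    ext x
    rw [Ideal.mem_span_singleton']
    exact ⟨fun ⟨y, hy⟩ => ⟨y, by rw [mul_comm]; exact hy⟩, fun ⟨y, hy⟩ => ⟨y, by rw [← hy, mul_comm]; rfl⟩⟩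
  have h3 : DC g (B ⧸ Ideal.span {f}) := by
    rw [h2] at h1
    exact h1
  exact (dc_algebraMap_iff (A := B) (B := B ⧸ Ideal.span {f})).2 h3

theorem iInf_pow_pow_eq_bot_aux (r : ℕ) : ∀ (B : Type v) [CommRing B] (l : List B), l.length = r →
    (∀ f ∈ l, DC f B) → (⨅ n : ℕ, (Ideal.ofList l) ^ n) ^ (2 ^ r) = ⊥ := by
  induction r with
  | zero =>
    intro B _ l hl _
    rw [List.length_eq_zero_iff] at hl
    subst hl
    rw [Ideal.ofList_nil, pow_zero, pow_one, eq_bot_iff]
    exact (iInf_le _ 1).trans (by simp)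
  | succ r ih =>
    intro B _ l hl hdc
    obtain ⟨f, t, rfl⟩ := List.exists_cons_of_length_eq_add_one hl
    have hf : DC f B := hdc f List.mem_cons_self
    have ht : t.length = r := by simpa using hl
    rw [Ideal.ofList_cons]
    set J : Ideal B := ⨅ n : ℕ, (Ideal.span {f} ⊔ Ideal.ofList t) ^ n with hJ
    have key : J ^ (2 ^ r) ≤ ⨅ n : ℕ, Ideal.span {f ^ n} := by
      refine le_iInf fun n => ?_
      let q := Ideal.Quotient.mk (Ideal.span {f ^ n})
      have h1 := ih (B ⧸ Ideal.span {f ^ n}) (t.map q) (by simpa using ht) (by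
        intro g hg
        obtain ⟨g, hg', rfl⟩ := List.mem_map.1 hg
        exact dc_quotient_ring (hdc g (List.mem_cons_of_mem _ hg')) (f ^ n))
      have h2 : J.map q ≤ ⨅ m : ℕ, (Ideal.ofList (t.map q)) ^ m := by
        refine le_iInf fun m => ?_
        rw [← Ideal.map_ofList, ← Ideal.map_pow]
        have h3 : J ≤ Ideal.span {f ^ n} ⊔ (Ideal.ofList t) ^ m := by
          refine (iInf_le _ (n + m)).trans ?_
          refine (Ideal.sup_pow_add_le_pow_sup_pow).trans ?_
          rw [Ideal.span_singleton_pow]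
        refine (Ideal.map_mono h3).trans ?_
        rw [Ideal.map_sup]
        refine sup_le ?_ le_rfl
        rw [Ideal.map_quotient_self]
        exact bot_le
      have h4 : (J ^ (2 ^ r)).map q = ⊥ := by
        rw [Ideal.map_pow, eq_bot_iff, ← h1]
        exact Ideal.pow_right_mono h2 _
      rw [Ideal.map_eq_bot_iff_le_ker, Ideal.mk_ker] at h4
      exact h4
    rw [pow_succ 2 r, mul_two, pow_add, eq_bot_iff]
    refine (Ideal.mul_mono key key).trans ?_
    have h5 := iInf_smul_iInf_eq_bot hf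
    have h6 : ∀ n : ℕ, Ideal.span {f ^ n} • (⊤ : Submodule B B) = Ideal.span {f ^ n} := fun n => by
      rw [smul_eq_mul]; exact Ideal.mul_top _
    simp only [h6] at h5
    rw [smul_eq_mul] at h5
    exact h5.le

theorem iInf_pow_pow_eq_bot {B : Type v} [CommRing B] (s : Finset B) (h : DCI (Ideal.span (s : Set B)) B) :
    (⨅ n : ℕ, (Ideal.span (s : Set B)) ^ n) ^ (2 ^ s.card) = ⊥ := by
  have h1 := iInf_pow_pow_eq_bot_aux s.card B s.toList (by simp) (fun f hf =>
    h f (Ideal.subset_span (by simpa using hf)))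
  have h2 : Ideal.ofList s.toList = Ideal.span (s : Set B) := by
    unfold Ideal.ofList
    congr 1
    ext x
    simp
  rwa [h2] at h1

theorem isAdicComplete_of_isReduced {B : Type v} [CommRing B] [IsReduced B] {I : Ideal B} (hI : I.FG)
    (h : DCI I B) : IsAdicComplete I B := by
  have hp : IsPrecomplete I B := isPrecomplete hI h
  have hh : IsHausdorff I B := by
    obtain ⟨s, rfl⟩ := hI
    have h1 := iInf_pow_pow_eq_bot s h
    refine ⟨fun x hx => ?_⟩
    have h2 : x ∈ ⨅ n : ℕ, (Ideal.span (s : Set B)) ^ n := by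
      rw [Ideal.mem_iInf]
      intro n
      have h3 := hx n
      rw [SModEq.zero, smul_eq_mul, Ideal.mul_top] at h3
      exact h3
    have h4 := Ideal.pow_mem_pow h2 (2 ^ s.card)
    rw [h1, Ideal.mem_bot] at h4
    exact pow_eq_zero_iff (by positivity) |>.1 h4
  exact { toIsHausdorff := hh, toIsPrecomplete := hp }

end Nilpotent

end K230.DCMore
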