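import Groth.Agent.DRing.K230.DCSeq
import Mathlib.RingTheory.AdicCompletion.Basic
import Mathlib.RingTheory.Nilpotent.Lemmas
import Mathlib.RingTheory.Finiteness.Ideal
import Mathlib.Algebra.BigOperators.Intervals

/-!
# Derived complete modules and adic topologies: elementary statements

* `nakayama` : `I` finitely generated, `M` derived complete, `I M = M` ⟹ `M = 0`.
* `isPrecomplete` : `I` finitely generated, `M` derived complete ⟹ `M` is `I`-adically precomplete.
* `exists_pow_smul_eq_bot` : `I`-power torsion derived complete modules are killed by a power of `I`.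
* `dc_of_isAdicComplete` : adically complete modules are derived complete.
-/

set_option autoImplicit false

namespace K230.DCAdic

open K230.DCSeq

universe v

variable {A : Type*} [CommRing A]

section Basic

variable {M : Type*} [AddCommGroup M] [Module A M]

open Pointwise in
lemma mem_span_singleton_smul {f : A} {N : Submodule A M} {x : M} :
    x ∈ Ideal.span {f} • N ↔ ∃ y ∈ N, f • y = x := by
  rw [Submodule.ideal_span_singleton_smul, Submodule.mem_smul_pointwise_iff_exists]

lemma mem_iInf_range {f : A} {x : M} :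
    x ∈ (⨅ n : ℕ, (Ideal.span {f ^ n}) • (⊤ : Submodule A M)) ↔ ∀ n : ℕ, ∃ y : M, f ^ n • y = x := by
  simp only [Submodule.mem_iInf, mem_span_singleton_smul, Submodule.mem_top, true_and]

end Basic

section Nakayama

theorem nakayama_aux (s : Finset A) : ∀ (M : Type v) [AddCommGroup M] [Module A M],
    (∀ f ∈ s, DC f M) → (Ideal.span (s : Set A) • (⊤ : Submodule A M) = ⊤) → Subsingleton M := by
  classical
  induction s using Finset.induction_on with
  | empty =>
    intro M _ _ _ h
    rw [Finset.coe_empty, Ideal.span_empty, Submodule.bot_smul] at h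
    exact (Submodule.subsingleton_iff A).1 (subsingleton_of_bot_eq_top h)
  | insert f t _ ih =>
    intro M _ _ hdc h
    have hf : DC f M := hdc f (Finset.mem_insert_self f t)
    let u : M →ₗ[A] M := LinearMap.lsmul A M f
    have hN : Subsingleton (M ⧸ LinearMap.range u) := by
      refine ih (M ⧸ LinearMap.range u) (fun g hg =>
        (hdc g (Finset.mem_insert_of_mem hg)).coker (hdc g (Finset.mem_insert_of_mem hg)) u) ?_
      rw [eq_top_iff]
      rintro x -
      obtain ⟨x, rfl⟩ := Submodule.mkQ_surjective _ x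
      have hx : x ∈ (⊤ : Submodule A M) := Submodule.mem_top
      rw [← h, Finset.coe_insert, Ideal.span_insert, Submodule.sup_smul, Submodule.mem_sup] at hx
      obtain ⟨y, hy, z, hz, rfl⟩ := hx
      rw [map_add]
      refine Submodule.add_mem _ ?_ ?_
      · have : (LinearMap.range u).mkQ y = 0 := by
          rw [Submodule.mkQ_apply, Submodule.Quotient.mk_eq_zero]
          obtain ⟨w, -, rfl⟩ := mem_span_singleton_smul.1 hy
          exact ⟨w, rfl⟩
        rw [this]
        exact Submodule.zero_mem _
      · have h1 := Submodule.mem_map_of_mem (f := (LinearMap.range u).mkQ) hz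
        rw [Submodule.map_smul''] at h1
        exact Submodule.smul_mono le_rfl le_top h1
    refine hf.subsingleton (fun x => ?_)
    have : (LinearMap.range u).mkQ x = 0 := Subsingleton.elim _ _
    rw [Submodule.mkQ_apply, Submodule.Quotient.mk_eq_zero] at this
    obtain ⟨y, hy⟩ := this
    exact ⟨y, hy.symm⟩

theorem nakayama {I : Ideal A} (hI : I.FG) (M : Type v) [AddCommGroup M] [Module A M] (h : DCI I M)
    (hM : I • (⊤ : Submodule A M) = ⊤) : Subsingleton M := by
  obtain ⟨s, rfl⟩ := hI
  exact nakayama_aux s M (fun f hf => h f (Ideal.subset_span hf)) hM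

end Nakayama

section Sum

variable {M : Type*} [AddCommGroup M] [Module A M]

/-- decomposition of elements of `(f, J)^n M` -/
def Q (f : A) (J : Ideal A) (n : ℕ) (x : M) : Prop :=
  ∃ c : ℕ → M, (∀ k, c k ∈ J ^ (n - k) • (⊤ : Submodule A M)) ∧ x = ∑ k ∈ Finset.range (n + 1), f ^ k • c k

lemma Q.add {f : A} {J : Ideal A} {n : ℕ} {x y : M} (hx : Q f J n x) (hy : Q f J n y) : Q f J n (x + y) := by
  obtain ⟨c, hc, rfl⟩ := hx
  obtain ⟨d, hd, rfl⟩ := hy
  refine ⟨fun k => c k + d k, fun k => Submodule.add_mem _ (hc k) (hd k), ?_⟩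
  rw [← Finset.sum_add_distrib]
  simp only [smul_add]

lemma Q.smul {f : A} {J : Ideal A} {n : ℕ} {x : M} (a : A) (hx : Q f J n x) : Q f J n (a • x) := by
  obtain ⟨c, hc, rfl⟩ := hx
  refine ⟨fun k => a • c k, fun k => Submodule.smul_mem _ _ (hc k), ?_⟩
  rw [Finset.smul_sum]
  exact Finset.sum_congr rfl fun k _ => smul_comm _ _ _

lemma Q.step_left {f : A} {J : Ideal A} {n : ℕ} {x : M} (hx : Q f J n x) : Q f J (n + 1) (f • x) := by
  obtain ⟨c, hc, rfl⟩ := hx
  refine ⟨fun k => Nat.casesOn k 0 (fun k' => c k'), fun k => ?_, ?_⟩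
  · rcases k with _ | k
    · exact Submodule.zero_mem _
    · have : n + 1 - (k + 1) = n - k := by omega
      rw [this]; exact hc k
  · rw [Finset.sum_range_succ' (n := n + 1), Finset.smul_sum]
    change _ = ∑ k ∈ Finset.range (n + 1), f ^ (k + 1) • c k + f ^ 0 • (0 : M)
    rw [smul_zero, add_zero]
    exact Finset.sum_congr rfl fun k _ => by rw [smul_smul, pow_succ']

lemma Q.step_right {f : A} {J : Ideal A} {n : ℕ} {x : M} {a : A} (ha : a ∈ J) (hx : Q f J n x) :
    Q f J (n + 1) (a • x) := by
  obtain ⟨c, hc, rfl⟩ := hx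
  refine ⟨fun k => if k ≤ n then a • c k else 0, fun k => ?_, ?_⟩
  · dsimp only
    split_ifs with hk
    · have : n + 1 - k = (n - k) + 1 := by omega
      rw [this, pow_succ', Submodule.mul_smul]
      exact Submodule.smul_mem_smul ha (hc k)
    · exact Submodule.zero_mem _
  · rw [Finset.sum_range_succ (n := n + 1)]
    dsimp only
    rw [if_neg (by omega), smul_zero, add_zero, Finset.smul_sum]
    refine Finset.sum_congr rfl fun k hk => ?_
    rw [Finset.mem_range] at hk
    rw [if_pos (by omega), smul_comm]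

lemma q_of_mem (f : A) (J : Ideal A) (n : ℕ) : ∀ x : M,
    x ∈ (Ideal.span {f} ⊔ J) ^ n • (⊤ : Submodule A M) → Q f J n x := by
  induction n with
  | zero => exact fun x _ => ⟨fun _ => x, fun k => by simp, by simp⟩
  | succ n ih =>
    intro x hx
    rw [pow_succ', Submodule.mul_smul] at hx
    refine Submodule.smul_induction_on hx (fun r hr y hy => ?_) (fun _ _ h h' => h.add h')
    obtain ⟨r', hr', a, ha, rfl⟩ := Submodule.mem_sup.1 hr
    obtain ⟨r'', rfl⟩ := Ideal.mem_span_singleton.1 hr'
    rw [add_smul]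
    refine Q.add ?_ ((ih y hy).step_right ha)
    rw [mul_comm, mul_smul]
    exact ((ih y hy).step_left).smul r''

lemma smul_mem_aux {f : A} {J : Ideal A} {k n : ℕ} {x : M} (hk : k ≤ n)
    (hx : x ∈ J ^ (n - k) • (⊤ : Submodule A M)) :
    f ^ k • x ∈ (Ideal.span {f} ⊔ J) ^ n • (⊤ : Submodule A M) := by
  have h1 : f ^ k • x ∈ (Ideal.span {f} ⊔ J) ^ k • ((Ideal.span {f} ⊔ J) ^ (n - k) • (⊤ : Submodule A M)) := by
    refine Submodule.smul_mem_smul (Ideal.pow_mem_pow (Ideal.mem_sup_left (Ideal.mem_span_singleton_self f)) k) ?_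
    exact Submodule.smul_mono_left (Ideal.pow_right_mono le_sup_right _) hx
  rw [← Submodule.mul_smul, ← pow_add] at h1
  have : k + (n - k) = n := by omega
  rwa [this] at h1

/-- Convergence of series in derived complete modules. -/
theorem exists_sum_aux (s : Finset A) (hdc : ∀ f ∈ s, DC f M) : ∀ b : ℕ → M,
    (∀ n, b n ∈ (Ideal.span (s : Set A)) ^ n • (⊤ : Submodule A M)) →
      ∃ x : M, ∀ n, x - ∑ i ∈ Finset.range n, b i ∈ (Ideal.span (s : Set A)) ^ n • (⊤ : Submodule A M) := by
  classical
  induction s using Finset.induction_on with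
  | empty =>
    intro b hb
    refine ⟨b 0, fun n => ?_⟩
    rcases n with _ | n
    · simp
    · rw [Finset.sum_range_succ']
      have : ∑ k ∈ Finset.range n, b (k + 1) = 0 := Finset.sum_eq_zero fun k _ => by
        have h := hb (k + 1)
        rw [Finset.coe_empty, Ideal.span_empty, ← Ideal.zero_eq_bot, zero_pow (by omega), Ideal.zero_eq_bot,
          Submodule.bot_smul] at h
        exact (Submodule.mem_bot A).1 h
      rw [this]
      simp
  | insert f t _ ih =>
    intro b hb
    have hf : DC f M := hdc f (Finset.mem_insert_self f t)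
    have ih' := ih (fun g hg => hdc g (Finset.mem_insert_of_mem hg))
    set J : Ideal A := Ideal.span (t : Set A) with hJ
    have hI : Ideal.span ((insert f t : Finset A) : Set A) = Ideal.span {f} ⊔ J := by
      rw [Finset.coe_insert, Ideal.span_insert]
    rw [hI] at hb ⊢
    choose c hc hbc using fun n => q_of_mem f J n (b n) (hb n)
    have h1 : ∀ k, ∃ y : M, ∀ n, y - ∑ l ∈ Finset.range n, c (k + l) k ∈ J ^ n • (⊤ : Submodule A M) := by
      intro k
      refine ih' (fun l => c (k + l) k) (fun l => ?_)
      have := hc (k + l) k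
      rwa [Nat.add_sub_cancel_left] at this
    choose y hy using h1
    refine ⟨hf.sum y, fun n => ?_⟩
    have h2 : ∑ i ∈ Finset.range n, b i =
        ∑ k ∈ Finset.range n, f ^ k • ∑ l ∈ Finset.range (n - k), c (k + l) k := by
      have h3 := Finset.sum_range_diag_flip n (fun k l => f ^ k • c (k + l) k)
      simp only [Finset.smul_sum]
      rw [← h3]
      refine Finset.sum_congr rfl fun m _ => ?_
      rw [hbc m]
      refine Finset.sum_congr rfl fun k hk => ?_
      rw [Finset.mem_range] at hk
      have : k + (m - k) = m := by omega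
      rw [this]
    rw [h2, hf.sum_eq_range y n, add_sub_right_comm, ← Finset.sum_sub_distrib]
    refine Submodule.add_mem _ (Submodule.sum_mem _ fun k hk => ?_) ?_
    · rw [← smul_sub]
      exact smul_mem_aux (le_of_lt (Finset.mem_range.1 hk)) (hy k (n - k))
    · exact smul_mem_aux le_rfl (by simp)

theorem exists_sum {I : Ideal A} (hI : I.FG) (hdc : DCI I M) (b : ℕ → M)
    (hb : ∀ n, b n ∈ I ^ n • (⊤ : Submodule A M)) :
    ∃ x : M, ∀ n, x - ∑ i ∈ Finset.range n, b i ∈ I ^ n • (⊤ : Submodule A M) := by
  obtain ⟨s, rfl⟩ := hI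
  exact exists_sum_aux s (fun f hf => hdc f (Ideal.subset_span hf)) b hb

theorem isPrecomplete {I : Ideal A} (hI : I.FG) (hdc : DCI I M) : IsPrecomplete I M where
  prec' g hg := by
    obtain ⟨x, hx⟩ := exists_sum hI hdc (fun n => g (n + 1) - g n) (fun n =>
      (SModEq.sub_mem).1 (hg (Nat.le_succ n)).symm)
    refine ⟨x + g 0, fun n => ?_⟩
    have h := hx n
    rw [Finset.sum_range_sub] at h
    refine (SModEq.sub_mem.2 ?_).symm
    have e : x + g 0 - g n = x - (g n - g 0) := by abel
    rw [e]; exact h

theorem adicCompletion_of_surjective {I : Ideal A} (hI : I.FG) (hdc : DCI I M) :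
    Function.Surjective (AdicCompletion.of I M) :=
  AdicCompletion.of_surjective_iff.2 (isPrecomplete hI hdc)

end Sum

end K230.DCAdic
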