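import Groth.Agent.DRing.K230.DCLink
import Mathlib.Algebra.Homology.ShortComplex.ModuleCat

/-!
# Complexes with derived complete terms are derived complete
-/

set_option autoImplicit false

universe u

open CategoryTheory Limits

attribute [local instance] HasDerivedCategory.standard

namespace K230.DCCx

open K230.DCSeq

variable {A : Type u} [CommRing A]

lemma dc_of_iso {f : A} {X Y : ModuleCat.{u} A} (h : DC f X) (e : X ≅ Y) : DC f Y := h.of_equiv e.toLinearEquiv

lemma dc_homology (f : A) (S : ShortComplex (ModuleCat.{u} A)) (h1 : DC f S.X₁) (h2 : DC f S.X₂)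
    (h3 : DC f S.X₃) : DC f S.homology :=
  dc_of_iso (h1.coker (h2.ker h3 S.g.hom) S.moduleCatToCycles) S.moduleCatHomologyIso.symm

/-- `H^n(E)` for the image of a complex in `D(A)`. -/
noncomputable def hdToDIso (E : DRing.Cx A) (n : ℤ) :
    (DerivedCategory.homologyFunctor (ModuleCat.{u} A) n).obj (DRing.toD E) ≅ E.homology n :=
  (DerivedCategory.homologyFunctorFactors (ModuleCat.{u} A) n).app E

theorem dc_hd_toD (f : A) (E : DRing.Cx A) (h : ∀ i, DC f (E.X i)) (n : ℤ) : DC f (Dual.HD A (DRing.toD E) n) :=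
  dc_of_iso (dc_homology f (E.sc n) (h _) (h _) (h _)) (hdToDIso E n).symm

theorem isDerivedComplete_toD (I : Ideal A) (E : DRing.Cx A) (h : ∀ f ∈ I, ∀ i, DC f (E.X i)) :
    DRing.IsDerivedComplete I (DRing.toD E) := by
  rw [DCLink.isDerivedComplete_iff]
  exact fun f hf n => dc_hd_toD f E (h f hf) n

lemma dc_of_finite_free {f : A} (hA : DC f A) (M : Type*) [AddCommGroup M] [Module A M] [Module.Finite A M]
    [Module.Free A M] : DC f M := by
  have h1 : DC f (Module.Free.ChooseBasisIndex A M → A) := DC.pi (fun _ => hA)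
  exact h1.of_equiv (Module.Free.chooseBasis A M).equivFun.symm

theorem isDerivedComplete_of_iso {I : Ideal A} {K L : Dual.D A} (e : K ≅ L) (h : DRing.IsDerivedComplete I K) :
    DRing.IsDerivedComplete I L := by
  rw [DCLink.isDerivedComplete_iff] at h ⊢
  exact fun f hf n => dc_of_iso (h f hf n) ((DerivedCategory.homologyFunctor (ModuleCat.{u} A) n).mapIso e)

end K230.DCCx
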