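import Groth.Agent.DRing.K230.DCSeq
import Mathlib.RingTheory.Henselian
import Mathlib.RingTheory.PowerSeries.Basic
import Mathlib.RingTheory.AdicCompletion.Completeness

/-!
# Derived complete rings are henselian

If `A` is derived complete with respect to `c`, evaluation `A⟦X⟧ →+* A`, `X ↦ c` makes sense.
-/

set_option autoImplicit false

namespace K230.DCHens

open K230.DCSeq PowerSeries

variable {A : Type*} [CommRing A] {c : A}

/-- evaluation of power series at `c`, as a linear map -/
noncomputable def evalLin (h : DC c A) : A⟦X⟧ →ₗ[A] A :=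
  h.sum.comp (LinearMap.pi fun n => PowerSeries.coeff n)

lemma evalLin_apply (h : DC c A) (p : A⟦X⟧) : evalLin h p = h.sum (fun n => PowerSeries.coeff n p) := rfl

lemma evalLin_X_mul (h : DC c A) (p : A⟦X⟧) : evalLin h (X * p) = c * evalLin h p := by
  rw [evalLin_apply, h.sum_eq]
  simp only [PowerSeries.coeff_zero_X_mul, zero_add, PowerSeries.coeff_succ_X_mul, smul_eq_mul]
  rfl

lemma evalLin_C (h : DC c A) (a : A) : evalLin h (C a) = a := by
  rw [evalLin_apply, h.sum_eq]
  have : (fun n => PowerSeries.coeff (n + 1) (C a : A⟦X⟧)) = 0 := by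
    funext n
    simp [PowerSeries.coeff_C]
  rw [this, map_zero]
  simp

/-- every power series is congruent to its value modulo `X - c` -/
lemma exists_eq (h : DC c A) (p : A⟦X⟧) : ∃ q : A⟦X⟧, p = C (evalLin h p) + (X - C c) * q := by
  obtain ⟨a, ha⟩ := h.2 (fun n => PowerSeries.coeff n p)
  have ha' : ∀ n, PowerSeries.coeff n p = a n - c • a (n + 1) := fun n => (congrFun ha n).symm
  have h0 : evalLin h p = a 0 := h.sum_eq_of_seq a _ ha'
  refine ⟨PowerSeries.mk (fun n => a (n + 1)), ?_⟩
  ext n
  rw [ha' n, h0, map_add, sub_mul, map_sub]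
  rcases n with _ | n
  · simp [PowerSeries.coeff_zero_X_mul]
    ring
  · simp [PowerSeries.coeff_succ_X_mul, PowerSeries.coeff_C]

lemma evalLin_sub_mul (h : DC c A) (q : A⟦X⟧) : evalLin h ((X - C c) * q) = 0 := by
  rw [sub_mul, map_sub, evalLin_X_mul]
  have : (C c : A⟦X⟧) * q = c • q := by rw [PowerSeries.smul_eq_C_mul]
  rw [this, map_smul, smul_eq_mul, sub_self]

/-- evaluation of power series at `c`, as a ring homomorphism -/
noncomputable def evalHom (h : DC c A) : A⟦X⟧ →+* A where
  toFun := evalLin h
  map_zero' := map_zero _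
  map_add' := map_add _
  map_one' := by
    have := evalLin_C h 1
    rwa [map_one] at this
  map_mul' p q := by
    obtain ⟨p', hp⟩ := exists_eq h p
    obtain ⟨q', hq⟩ := exists_eq h q
    have e : p * q = C (evalLin h p * evalLin h q) +
        (X - C c) * (p' * q + C (evalLin h p) * q') := by
      conv_lhs => rw [hp]
      rw [add_mul]
      conv_lhs => enter [1]; rw [hq]
      rw [map_mul]
      ring
    rw [e, map_add, evalLin_C, evalLin_sub_mul, add_zero]

lemma evalHom_X (h : DC c A) : evalHom h X = c := by
  have := evalLin_X_mul h (C 1)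
  rw [evalLin_C, map_one, mul_one, mul_one] at this
  exact this

lemma evalHom_C (h : DC c A) (a : A) : evalHom h (C a) = a := evalLin_C h a

lemma evalHom_comp_C (h : DC c A) : (evalHom h).comp C = RingHom.id A := RingHom.ext (evalHom_C h)

lemma isUnit_one_sub (h : DC c A) : IsUnit (1 - c) := by
  have h1 := h.sum_eq (fun _ => (1 : A))
  refine IsUnit.of_mul_eq_one (h.sum (fun _ => (1 : A))) ?_
  rw [sub_mul, one_mul]
  simp only [smul_eq_mul] at h1
  rw [sub_eq_iff_eq_add]
  exact h1

theorem le_jacobson {I : Ideal A} (h : DCI I A) : I ≤ Ideal.jacobson ⊥ := by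
  intro x hx
  rw [Ideal.mem_jacobson_bot]
  intro y
  have h1 : -(x * y) ∈ I := I.neg_mem (I.mul_mem_right y hx)
  have := isUnit_one_sub (h _ h1)
  have e : x * y + 1 = 1 - -(x * y) := by ring
  rw [e]; exact this

theorem henselianRing {I : Ideal A} (h : DCI I A) : HenselianRing A I where
  jac := le_jacobson h
  is_henselian f hf a₀ ha hu := by
    classical
    set c := f.eval a₀ with hc
    have hdc : DC c A := h c ha
    have hu' : IsUnit (f.derivative.eval a₀) := by
      obtain ⟨b, hb⟩ := Ideal.Quotient.mk_surjective (hu.unit⁻¹ : (A ⧸ I)ˣ).1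
      have h1 : Ideal.Quotient.mk I (f.derivative.eval a₀ * b) = 1 := by
        rw [map_mul, hb]
        exact hu.mul_val_inv
      have h2 : 1 - f.derivative.eval a₀ * b ∈ I := by
        rw [← Ideal.Quotient.eq_zero_iff_mem, map_sub, map_one, h1, sub_self]
      have h3 := isUnit_one_sub (h _ h2)
      rw [sub_sub_cancel] at h3
      exact isUnit_of_mul_isUnit_left h3
    -- degree zero case
    by_cases hdeg : f.natDegree = 0
    · have h1 : f = 1 := hf.natDegree_eq_zero.1 hdeg
      have h2 : c = 1 := by rw [hc, h1, Polynomial.eval_one]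
      have h3 := isUnit_one_sub hdc
      rw [h2, sub_self, isUnit_zero_iff] at h3
      have : Subsingleton A := subsingleton_of_zero_eq_one h3
      exact ⟨a₀, Subsingleton.elim _ _, by rw [sub_self]; exact I.zero_mem⟩
    · let F : Polynomial A⟦X⟧ := f.map (C (R := A)) + Polynomial.C (X - C c)
      have hF : F.Monic := by
        refine (hf.map _).add_of_left ?_
        refine lt_of_le_of_lt Polynomial.degree_C_le ?_
        by_cases hA : Nontrivial A
        · rw [Polynomial.degree_map_eq_of_leadingCoeff_ne_zero]
          · exact Polynomial.natDegree_pos_iff_degree_pos.1 (Nat.pos_of_ne_zero hdeg)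
          · rw [hf.leadingCoeff, map_one]; exact one_ne_zero
        · rw [not_nontrivial_iff_subsingleton] at hA
          exact absurd (by rw [Subsingleton.elim f 0, Polynomial.natDegree_zero]) hdeg
      have hFa : F.eval (C a₀) = X := by
        rw [Polynomial.eval_add, Polynomial.eval_C, Polynomial.eval_map, Polynomial.eval₂_at_apply, ← hc]
        ring
      have hF' : F.derivative.eval (C a₀) = C (f.derivative.eval a₀) := by
        rw [Polynomial.derivative_add, Polynomial.derivative_C, add_zero, Polynomial.derivative_map,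
          Polynomial.eval_map, Polynomial.eval₂_at_apply]
      have hens : HenselianRing A⟦X⟧ (Ideal.span {X}) := IsAdicComplete.henselianRing _ _
      obtain ⟨α, hα, hα'⟩ := hens.is_henselian F hF (C a₀) (by
        rw [hFa]; exact Ideal.mem_span_singleton_self _) (by
        rw [hF']
        exact (hu'.map C).map _)
      refine ⟨evalHom hdc α, ?_, ?_⟩
      · have h1 : evalHom hdc (F.eval α) = 0 := by
          rw [hα.eq_zero, map_zero]
        rw [Polynomial.eval_add, Polynomial.eval_C, map_add, map_sub, evalHom_X, evalHom_C, sub_self, add_zero,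
          Polynomial.eval_map, Polynomial.hom_eval₂, evalHom_comp_C] at h1
        exact h1
      · obtain ⟨β, hβ⟩ := Ideal.mem_span_singleton.1 hα'
        have h1 := congrArg (evalHom hdc) hβ
        rw [map_sub, map_mul, evalHom_X, evalHom_C] at h1
        rw [h1]
        exact I.mul_mem_right _ ha

end K230.DCHens
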