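import Mathlib.LinearAlgebra.Quotient.Basic
import Mathlib.LinearAlgebra.Isomorphisms
import Mathlib.LinearAlgebra.Pi
import Mathlib.Algebra.BigOperators.Group.Finset.Basic
import Mathlib.Data.Nat.Choose.Basic
import Mathlib.Algebra.Algebra.Basic
import Mathlib.RingTheory.Ideal.Operations
import Mathlib.Tactic.Ring
import Mathlib.Tactic.Module
import Mathlib.Algebra.Exact.Basic

/-!
# Modules which are derived complete with respect to one element: the elementary theory

`DC f M`: the map `(x_k) ↦ (x_k - f x_{k+1})` on sequences in `M` is bijective.  Equivalently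
(`DC.iff_exists_sum`) there is a linear operator `S : M^ℕ → M` ("`S b = ∑ f^n b_n`") with `S b = b_0 + f S (shift b)`.
-/

set_option autoImplicit false

namespace K230.DCSeq

variable {A : Type*} [CommRing A]

section Def

variable (f : A) (M : Type*) [AddCommGroup M] [Module A M]

/-- the shift of a sequence -/
def shift : (ℕ → M) →ₗ[A] (ℕ → M) := LinearMap.funLeft A M Nat.succ

/-- `(x_k) ↦ (x_k - f x_{k+1})` -/
def seqL : (ℕ → M) →ₗ[A] (ℕ → M) := LinearMap.id - f • shift (A := A) M

/-- `M` is derived complete with respect to `f`. -/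
def DC : Prop := Function.Bijective (fun (x : ℕ → M) (k : ℕ) => x k - f • x (k + 1))

end Def

variable {f : A} {M : Type*} [AddCommGroup M] [Module A M]

@[simp] lemma shift_apply (x : ℕ → M) (k : ℕ) : shift (A := A) M x k = x (k + 1) := rfl

lemma seqL_apply (x : ℕ → M) (k : ℕ) : seqL f M x k = x k - f • x (k + 1) := rfl

lemma dc_iff_bijective_seqL : DC f M ↔ Function.Bijective (seqL f M) := Iff.rfl

/-- A summation operator for `f` on `M`. -/
structure IsSum (f : A) (S : (ℕ → M) →ₗ[A] M) : Prop where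
  eq : ∀ b : ℕ → M, S b = b 0 + f • S (fun n => b (n + 1))

namespace IsSum

variable {S : (ℕ → M) →ₗ[A] M}

lemma telescope (h : IsSum f S) (y : ℕ → M) : S (fun n => y n - f • y (n + 1)) = y 0 := by
  have e : (fun n => y n - f • y (n + 1)) = y - f • (fun n => y (n + 1)) := rfl
  rw [e, map_sub, map_smul, h.eq y]
  abel

theorem dc (h : IsSum f S) : DC f M := by
  constructor
  · intro x y hxy
    have key : ∀ (z : ℕ → M) (n : ℕ), z n = S (fun k => z (n + k) - f • z (n + k + 1)) := fun z n =>
      (h.telescope (fun k => z (n + k))).symm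
    funext n
    rw [key x n, key y n]
    congr 1
    funext k
    exact congrFun hxy (n + k)
  · intro b
    refine ⟨fun k => S (fun n => b (k + n)), ?_⟩
    funext k
    dsimp only
    rw [h.eq (fun n => b (k + n))]
    have : (fun n => b (k + (n + 1))) = (fun n => b (k + 1 + n)) := by
      funext n; congr 1; omega
    rw [this]
    simp

end IsSum

namespace DC

/-- The summation operator. -/
noncomputable def sum (h : DC f M) : (ℕ → M) →ₗ[A] M :=
  (LinearMap.proj 0).comp (LinearEquiv.ofBijective (seqL f M) h).symm.toLinearMap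

lemma sum_seq (h : DC f M) (x : ℕ → M) : h.sum (fun k => x k - f • x (k + 1)) = x 0 := by
  change (LinearEquiv.ofBijective (seqL f M) h).symm (seqL f M x) 0 = x 0
  have : (LinearEquiv.ofBijective (seqL f M) h).symm (seqL f M x) = x :=
    (LinearEquiv.ofBijective (seqL f M) h).symm_apply_apply x
  rw [this]

lemma sum_eq_of_seq (h : DC f M) (x b : ℕ → M) (hx : ∀ k, b k = x k - f • x (k + 1)) : h.sum b = x 0 := by
  have : b = fun k => x k - f • x (k + 1) := funext hx
  rw [this, h.sum_seq]

lemma isSum (h : DC f M) : IsSum f h.sum where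
  eq b := by
    obtain ⟨x, hx⟩ := h.2 b
    have hx' : ∀ k, b k = x k - f • x (k + 1) := fun k => (congrFun hx k).symm
    rw [h.sum_eq_of_seq x b hx', h.sum_eq_of_seq (fun k => x (k + 1)) (fun k => b (k + 1)) (fun k => hx' (k + 1)),
      hx' 0]
    simp

lemma sum_eq (h : DC f M) (b : ℕ → M) : h.sum b = b 0 + f • h.sum (fun n => b (n + 1)) := h.isSum.eq b

lemma sum_eq_range (h : DC f M) (b : ℕ → M) (n : ℕ) :
    h.sum b = (∑ i ∈ Finset.range n, f ^ i • b i) + f ^ n • h.sum (fun k => b (n + k)) := by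
  induction n with
  | zero => simp
  | succ n ih =>
    rw [ih, Finset.sum_range_succ, h.sum_eq (fun k => b (n + k)), smul_add, add_assoc, smul_smul, ← pow_succ]
    simp only [add_zero]
    have e : (fun k => b (n + (k + 1))) = fun k => b (n + 1 + k) := by
      funext k; congr 1; omega
    rw [e]

/-- an infinitely `f`-divisible compatible sequence vanishes -/
lemma eq_zero (h : DC f M) {x : ℕ → M} (hx : ∀ n, x n = f • x (n + 1)) (n : ℕ) : x n = 0 := by
  have : x = 0 := h.1 (by
    funext k
    simp only [Pi.zero_apply, smul_zero, sub_zero]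
    rw [hx k, sub_self])
  rw [this]; rfl

end DC

theorem dc_iff_exists_sum : DC f M ↔ ∃ S : (ℕ → M) →ₗ[A] M, IsSum f S :=
  ⟨fun h => ⟨h.sum, h.isSum⟩, fun ⟨_, h⟩ => h.dc⟩

/-- If `DC f M` then `f • = surjective` implies `M = 0`. -/
theorem DC.subsingleton (h : DC f M) (hf : ∀ x : M, ∃ y : M, x = f • y) : Subsingleton M := by
  choose g hg using hf
  refine ⟨fun a b => ?_⟩
  have key : ∀ a : M, a = 0 := fun a => by
    let x : ℕ → M := fun n => Nat.rec a (fun _ y => g y) n
    exact h.eq_zero (x := x) (fun n => hg (x n)) 0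
  rw [key a, key b]

section Ring

variable (M)

lemma dc_zero : DC (0 : A) M := by
  refine (dc_iff_exists_sum).2 ⟨LinearMap.proj 0, ⟨fun b => ?_⟩⟩
  simp

variable {M}

lemma DC.mul_left (h : DC f M) (g : A) : DC (g * f) M := by
  obtain ⟨S, hS⟩ := dc_iff_exists_sum.1 h
  let D : (ℕ → M) →ₗ[A] (ℕ → M) := LinearMap.pi fun n => g ^ n • LinearMap.proj n
  refine dc_iff_exists_sum.2 ⟨S.comp D, ⟨fun b => ?_⟩⟩
  change S (fun n => g ^ n • b n) = b 0 + (g * f) • S (fun n => g ^ n • b (n + 1))
  rw [hS.eq]
  have : (fun n => g ^ (n + 1) • b (n + 1)) = g • (fun n => g ^ n • b (n + 1)) := by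
    funext n
    rw [Pi.smul_apply, smul_smul, pow_succ']
  rw [this, map_smul, smul_smul, mul_comm f g]
  simp

/-- double sums -/
lemma DC.add {g : A} (h : DC f M) (h' : DC g M) : DC (f + g) M := by
  obtain ⟨S, hS⟩ := dc_iff_exists_sum.1 h
  obtain ⟨T, hT⟩ := dc_iff_exists_sum.1 h'
  -- `U c = ∑ f^i g^j c (i, j)`
  let U : (ℕ → ℕ → M) →ₗ[A] M := S.comp (LinearMap.pi fun i => T.comp (LinearMap.proj i))
  have hU : ∀ c, U c = S (fun i => T (c i)) := fun _ => rfl
  have h1 : ∀ c : ℕ → ℕ → M, (c 0 = 0) → U c = f • U (fun i => c (i + 1)) := by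
    intro c hc
    rw [hU, hS.eq, hc, map_zero, zero_add, hU]
  have h2 : ∀ c : ℕ → ℕ → M, (∀ i, c i 0 = 0) → U c = g • U (fun i j => c i (j + 1)) := by
    intro c hc
    rw [hU, hU]
    have : (fun i => T (c i)) = g • (fun i => T (fun j => c i (j + 1))) := by
      funext i
      rw [hT.eq, hc, zero_add, Pi.smul_apply]
    rw [this, map_smul]
  have h3 : ∀ m : M, U (fun i j => if i = 0 ∧ j = 0 then m else 0) = m := by
    intro m
    rw [hU, hS.eq]
    have e1 : (fun n => T (fun j => if n + 1 = 0 ∧ j = 0 then m else 0)) = 0 := by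
      funext n
      have : (fun j => if n + 1 = 0 ∧ j = 0 then m else 0) = (0 : ℕ → M) := by
        funext j; simp
      rw [this, map_zero]; rfl
    rw [e1, map_zero, smul_zero, add_zero, hT.eq]
    have e2 : (fun n => if (0 : ℕ) = 0 ∧ n + 1 = 0 then m else 0) = (0 : ℕ → M) := by
      funext j; simp
    rw [e2, map_zero]; simp
  let D : (ℕ → M) →ₗ[A] (ℕ → ℕ → M) :=
    LinearMap.pi fun i => LinearMap.pi fun j => ((i + j).choose i : A) • LinearMap.proj (i + j)
  have hD : ∀ b i j, D b i j = ((i + j).choose i : A) • b (i + j) := fun _ _ _ => rfl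
  refine dc_iff_exists_sum.2 ⟨U.comp D, ⟨fun b => ?_⟩⟩
  change U (D b) = b 0 + (f + g) • U (D (fun n => b (n + 1)))
  let P : ℕ → ℕ → M := fun i j => Nat.casesOn i 0 (fun i' => D (fun n => b (n + 1)) i' j)
  let Q : ℕ → ℕ → M := fun i j => Nat.casesOn j 0 (fun j' => D (fun n => b (n + 1)) i j')
  have hsplit : D b = (fun i j => if i = 0 ∧ j = 0 then b 0 else 0) + P + Q := by
    funext i j
    change D b i j = (if i = 0 ∧ j = 0 then b 0 else 0) + P i j + Q i j
    rw [hD]
    rcases i with _ | i <;> rcases j with _ | j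
    · simp [P, Q]
    · simp [P, Q, hD]
    · simp [P, Q, hD]
    · simp only [P, Q, hD]
      have e : (i + 1 + (j + 1)).choose (i + 1) = (i + (j + 1)).choose i + (i + 1 + j).choose (i + 1) := by
        rw [show i + 1 + (j + 1) = (i + (j + 1)) + 1 by omega, Nat.choose_succ_succ,
          show i + (j + 1) = i + 1 + j by omega]
      rw [e]
      have e1 : i + (j + 1) + 1 = i + 1 + (j + 1) := by omega
      have e2 : i + 1 + j + 1 = i + 1 + (j + 1) := by omega
      rw [e1, e2]
      simp [add_smul]
  rw [hsplit, map_add, map_add, h3, h1 P rfl, h2 Q (fun i => rfl), add_smul, add_assoc]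

lemma DC.of_pow (n : ℕ) (h : DC (f ^ n) M) : DC f M := by
  obtain ⟨S, hS⟩ := dc_iff_exists_sum.1 h
  let D : (ℕ → M) →ₗ[A] (ℕ → M) :=
    LinearMap.pi fun m => ∑ j ∈ Finset.range n, f ^ j • LinearMap.proj (m * n + j)
  have hD : ∀ b m, D b m = ∑ j ∈ Finset.range n, f ^ j • b (m * n + j) := by
    intro b m
    simp [D, LinearMap.sum_apply]
  refine dc_iff_exists_sum.2 ⟨S.comp D, ⟨fun b => ?_⟩⟩
  change S (D b) = b 0 + f • S (D (fun n => b (n + 1)))
  have key : D b - f • D (fun n => b (n + 1)) = fun m => b (m * n) - f ^ n • b ((m + 1) * n) := by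
    funext m
    change D b m - f • D (fun n => b (n + 1)) m = _
    rw [hD, hD, Finset.smul_sum]
    have e : ∀ j, f • f ^ j • b (m * n + j + 1) = f ^ (j + 1) • b (m * n + (j + 1)) := by
      intro j
      rw [smul_smul, pow_succ', add_assoc]
    simp only [e]
    rw [← Finset.sum_sub_distrib]
    rw [Finset.sum_range_sub' (fun j => f ^ j • b (m * n + j))]
    simp [Nat.succ_mul]
  have h2 : S (D b - f • D (fun n => b (n + 1))) = b 0 := by
    rw [key]
    have := hS.telescope (fun m => b (m * n))
    simpa using this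
  rw [map_sub, map_smul] at h2
  rw [← h2]
  abel

end Ring

section Functor

variable {N P : Type*} [AddCommGroup N] [Module A N] [AddCommGroup P] [Module A P]

lemma DC.map_sum (h : DC f M) (h' : DC f N) (u : M →ₗ[A] N) (b : ℕ → M) :
    u (h.sum b) = h'.sum (fun n => u (b n)) := by
  obtain ⟨x, hx⟩ := h.2 b
  have hx' : ∀ k, b k = x k - f • x (k + 1) := fun k => (congrFun hx k).symm
  rw [h.sum_eq_of_seq x b hx', h'.sum_eq_of_seq (fun k => u (x k)) _ (fun k => by rw [hx' k]; simp)]

/-- Derived completeness passes to both ends of `0 → K → M → N` . -/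
lemma DC.of_exact_left (h : DC f M) (h' : DC f N) (i : P →ₗ[A] M) (u : M →ₗ[A] N)
    (hi : Function.Injective i) (hex : Function.Exact i u) : DC f P := by
  constructor
  · intro x y hxy
    have h1 : (fun k => i (x k)) = fun k => i (y k) := h.1 (by
      funext k
      have := congrArg i (congrFun hxy k)
      simpa using this)
    funext k
    exact hi (congrFun h1 k)
  · intro b
    obtain ⟨x, hx⟩ := h.2 (fun k => i (b k))
    have hx' : ∀ k, i (b k) = x k - f • x (k + 1) := fun k => (congrFun hx k).symm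
    have hux : ∀ k, u (x k) = 0 := by
      refine h'.eq_zero (x := fun k => u (x k)) (fun k => ?_)
      have h3 := congrArg u (hx' k)
      rw [hex.apply_apply_eq_zero, map_sub, map_smul] at h3
      exact (sub_eq_zero.1 h3.symm)
    have h4 : ∀ k, ∃ y, i y = x k := fun k => (hex (x k)).1 (hux k)
    choose y hy using h4
    refine ⟨y, ?_⟩
    funext k
    apply hi
    rw [map_sub, map_smul, hy, hy, hx']

/-- Derived completeness passes to cokernels `M → N → P → 0`. -/
lemma DC.of_exact_right (h : DC f M) (h' : DC f N) (u : M →ₗ[A] N) (p : N →ₗ[A] P)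
    (hp : Function.Surjective p) (hex : Function.Exact u p) : DC f P := by
  constructor
  · intro x y hxy
    -- reduce to kernel
    have key : ∀ z : ℕ → P, (∀ k, z k = f • z (k + 1)) → ∀ k, z k = 0 := by
      intro z hz
      choose w hw using fun k => hp (z k)
      have h1 : ∀ k, ∃ m, u m = w k - f • w (k + 1) := fun k => (hex _).1 (by
        rw [map_sub, map_smul, hw, hw, ← hz, sub_self])
      choose m hm using h1
      obtain ⟨c, hc⟩ := h.2 m
      have h2 : w = fun k => u (c k) := h'.1 (by
        funext k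
        have := congrArg u (congrFun hc k)
        change w k - f • w (k + 1) = u (c k) - f • u (c (k + 1))
        rw [← hm, ← this]
        simp)
      intro k
      rw [← hw, h2]
      exact hex.apply_apply_eq_zero _
    funext k
    have := key (fun k => x k - y k) (fun k => by
      have h5 : x k - f • x (k + 1) = y k - f • y (k + 1) := congrFun hxy k
      rw [smul_sub]
      exact sub_eq_sub_iff_sub_eq_sub.1 h5) k
    exact sub_eq_zero.1 this
  · intro b
    choose c hc using fun k => hp (b k)
    obtain ⟨x, hx⟩ := h'.2 c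
    refine ⟨fun k => p (x k), ?_⟩
    funext k
    have := congrArg p (congrFun hx k)
    rw [hc] at this
    rw [← this]
    simp

/-- Derived completeness of extensions. -/
lemma DC.of_exact_middle (h : DC f M) (h' : DC f P) (i : M →ₗ[A] N) (p : N →ₗ[A] P)
    (hi : Function.Injective i) (hp : Function.Surjective p) (hex : Function.Exact i p) : DC f N := by
  constructor
  · intro x y hxy
    have key : ∀ z : ℕ → N, (∀ k, z k = f • z (k + 1)) → ∀ k, z k = 0 := by
      intro z hz
      have h1 : ∀ k, p (z k) = 0 := h'.eq_zero (x := fun k => p (z k)) (fun k => by rw [hz k]; simp)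
      choose m hm using fun k => (hex (z k)).1 (h1 k)
      have h2 : ∀ k, m k = 0 := h.eq_zero (fun k => hi (by rw [hm, map_smul, hm, ← hz]))
      intro k
      rw [← hm, h2, map_zero]
    funext k
    have := key (fun k => x k - y k) (fun k => by
      have h5 : x k - f • x (k + 1) = y k - f • y (k + 1) := congrFun hxy k
      rw [smul_sub]
      exact sub_eq_sub_iff_sub_eq_sub.1 h5) k
    exact sub_eq_zero.1 this
  · intro b
    obtain ⟨x, hx⟩ := h'.2 (fun k => p (b k))
    choose c hc using fun k => hp (x k)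
    have h1 : ∀ k, ∃ m, i m = b k - (c k - f • c (k + 1)) := fun k => (hex _).1 (by
      have := congrFun hx k
      dsimp only at this
      rw [map_sub, ← this, map_sub, map_smul, hc, hc, sub_self])
    choose m hm using h1
    obtain ⟨a, ha⟩ := h.2 m
    refine ⟨fun k => i (a k) + c k, ?_⟩
    funext k
    have h2 := congrArg i (congrFun ha k)
    rw [hm] at h2
    have h3 : i (a k) - f • i (a (k + 1)) = b k - (c k - f • c (k + 1)) := by
      rw [← h2]; simp
    change i (a k) + c k - f • (i (a (k + 1)) + c (k + 1)) = b k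
    have h4 : i (a k) + c k - f • (i (a (k + 1)) + c (k + 1)) =
      (i (a k) - f • i (a (k + 1))) + (c k - f • c (k + 1)) := by
      rw [smul_add]; abel
    rw [h4, h3]; abel

lemma DC.of_equiv (h : DC f M) (e : M ≃ₗ[A] N) : DC f N := by
  obtain ⟨S, hS⟩ := dc_iff_exists_sum.1 h
  refine dc_iff_exists_sum.2 ⟨e.toLinearMap.comp (S.comp (LinearMap.pi fun n => e.symm.toLinearMap.comp (LinearMap.proj n))),
    ⟨fun b => ?_⟩⟩
  change e (S (fun n => e.symm (b n))) = b 0 + f • e (S (fun n => e.symm (b (n + 1))))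
  rw [hS.eq, map_add, map_smul]
  simp

lemma dc_iff_of_equiv (e : M ≃ₗ[A] N) : DC f M ↔ DC f N := ⟨fun h => h.of_equiv e, fun h => h.of_equiv e.symm⟩

lemma DC.ker (h : DC f M) (h' : DC f N) (u : M →ₗ[A] N) : DC f (LinearMap.ker u) :=
  h.of_exact_left h' (LinearMap.ker u).subtype u (Submodule.injective_subtype _)
    (fun y => ⟨fun hy => ⟨⟨y, hy⟩, rfl⟩, fun ⟨x, hx⟩ => hx ▸ x.2⟩)

lemma DC.coker (h : DC f M) (h' : DC f N) (u : M →ₗ[A] N) : DC f (N ⧸ LinearMap.range u) :=
  h.of_exact_right h' u (LinearMap.range u).mkQ (Submodule.mkQ_surjective _)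
    (fun y => by rw [Submodule.mkQ_apply, Submodule.Quotient.mk_eq_zero]; rfl)

lemma DC.range (h : DC f M) (h' : DC f N) (u : M →ₗ[A] N) : DC f (LinearMap.range u) :=
  ((h.ker h' u).of_exact_right h (LinearMap.ker u).subtype u.rangeRestrict u.surjective_rangeRestrict
    (fun y => by
      rw [← LinearMap.mem_ker, LinearMap.ker_rangeRestrict]
      exact ⟨fun hy => ⟨⟨y, hy⟩, rfl⟩, fun ⟨x, hx⟩ => hx ▸ x.2⟩))

lemma DC.extension (M₁ : Submodule A M) (h : DC f M₁) (h' : DC f (M ⧸ M₁)) : DC f M :=
  h.of_exact_middle h' M₁.subtype M₁.mkQ (Submodule.injective_subtype _) (Submodule.mkQ_surjective _)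
    (fun y => by
      rw [Submodule.mkQ_apply, Submodule.Quotient.mk_eq_zero]
      exact ⟨fun hy => ⟨⟨y, hy⟩, rfl⟩, fun ⟨x, hx⟩ => hx ▸ x.2⟩)

/-- sub `f M` etc: quotient by an image of a power. -/
lemma DC.quotient (M₁ : Submodule A M) (h : DC f M₁) (h' : DC f M) : DC f (M ⧸ M₁) :=
  h.of_exact_right h' M₁.subtype M₁.mkQ (Submodule.mkQ_surjective _)
    (fun y => by
      rw [Submodule.mkQ_apply, Submodule.Quotient.mk_eq_zero]
      exact ⟨fun hy => ⟨⟨y, hy⟩, rfl⟩, fun ⟨x, hx⟩ => hx ▸ x.2⟩)

lemma DC.pi {ι : Type*} {N : ι → Type*} [∀ i, AddCommGroup (N i)] [∀ i, Module A (N i)]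
    (h : ∀ i, DC f (N i)) : DC f (∀ i, N i) := by
  constructor
  · intro x y hxy
    funext k i
    have := (h i).1 (a₁ := fun k => x k i) (a₂ := fun k => y k i) (by
      funext k
      exact congrFun (congrFun hxy k) i)
    exact congrFun this k
  · intro b
    choose x hx using fun i => (h i).2 (fun k => b k i)
    refine ⟨fun k i => x i k, ?_⟩
    funext k i
    exact congrFun (hx i) k

lemma dc_of_subsingleton [Subsingleton M] : DC f M :=
  dc_iff_exists_sum.2 ⟨0, ⟨fun _ => Subsingleton.elim _ _⟩⟩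

lemma DC.prod (h : DC f M) (h' : DC f N) : DC f (M × N) :=
  h.of_exact_middle h' (LinearMap.inl A M N) (LinearMap.snd A M N) (LinearMap.inl_injective)
    (LinearMap.snd_surjective) (Function.Exact.inl_snd)

/-- `DC` does not depend on the ring of scalars. -/
lemma dc_algebraMap_iff {B : Type*} [CommRing B] [Algebra A B] [Module B M] [IsScalarTower A B M] :
    DC (algebraMap A B f) M ↔ DC f M := by
  unfold DC
  simp only [algebraMap_smul]

end Functor

section Ideal

/-- Derived completeness with respect to an ideal. -/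
def DCI (I : Ideal A) (M : Type*) [AddCommGroup M] [Module A M] : Prop := ∀ f ∈ I, DC f M

variable (A M) in
/-- The radical ideal of all elements with respect to which `M` is derived complete. -/
def dcIdeal : Ideal A where
  carrier := {f | DC f M}
  zero_mem' := dc_zero M
  add_mem' h h' := DC.add h h'
  smul_mem' g _ h := DC.mul_left h g

lemma mem_dcIdeal : f ∈ dcIdeal A M ↔ DC f M := Iff.rfl

lemma dcIdeal_isRadical : (dcIdeal A M).IsRadical := fun _ ⟨n, hn⟩ => DC.of_pow n hn

lemma dci_iff_le {I : Ideal A} : DCI I M ↔ I ≤ dcIdeal A M := Iff.rfl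

lemma dci_span_iff {s : Set A} : DCI (Ideal.span s) M ↔ ∀ f ∈ s, DC f M := by
  rw [dci_iff_le, Ideal.span_le]; rfl

lemma dci_span_singleton_iff : DCI (Ideal.span {f}) M ↔ DC f M := by
  rw [dci_span_iff]; simp

end Ideal

end K230.DCSeq
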