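import Groth.Agent.LoccohB.DCompCrit
import Groth.Agent.DRing.K230.DCSeq
import Mathlib.Algebra.Homology.DerivedCategory.FullyFaithful
import Mathlib.Algebra.Homology.DerivedCategory.TStructure

/-!
# Derived completeness of objects of `D(A)` in terms of sequences in the cohomology modules

* `isDerivedComplete_iff : DRing.IsDerivedComplete I K ↔ ∀ f ∈ I, ∀ n, DC f (Dual.HD A K n)`
* `isDerivedComplete_inD_iff : DRing.IsDerivedComplete I (Dual.inD A M) ↔ ∀ f ∈ I, DC f M`
* `forall_subsingleton_iff` : the same for one element.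
-/

set_option autoImplicit false

universe u

open CategoryTheory Limits Pretriangulated

attribute [local instance] HasDerivedCategory.standard

namespace K230.DCLink

open K230.DCSeq

section Tri

variable {C : Type*} [Category* C] [HasZeroObject C] [HasShift C ℤ] [Preadditive C]
  [∀ n : ℤ, (shiftFunctor C n).Additive] [Pretriangulated C]

theorem bijective_precomp {T : Triangle C} (hT : T ∈ distTriang C) (W : C) (h0 : ∀ g : T.obj₃ ⟶ W, g = 0)
    (h1 : ∀ g : T.obj₃ ⟶ W⟦(1 : ℤ)⟧, g = 0) : Function.Bijective (fun g : T.obj₂ ⟶ W => T.mor₁ ≫ g) := by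
  constructor
  · intro g g' h
    have h2 : T.mor₁ ≫ (g - g') = 0 := by
      rw [Preadditive.comp_sub, sub_eq_zero]; exact h
    obtain ⟨k, hk⟩ := Triangle.yoneda_exact₂ _ hT (g - g') h2
    rw [← sub_eq_zero, hk, h0 k, comp_zero]
  · intro h
    have h2 : ∃ k : T.obj₂⟦(1 : ℤ)⟧ ⟶ W⟦(1 : ℤ)⟧, h⟦(1 : ℤ)⟧' = (-T.mor₁⟦(1 : ℤ)⟧') ≫ k :=
      Triangle.yoneda_exact₃ _ (rot_of_distTriang _ hT) (h⟦(1 : ℤ)⟧') (h1 _)
    obtain ⟨k, hk⟩ := h2
    obtain ⟨k', rfl⟩ := (shiftFunctor C (1 : ℤ)).map_surjective k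
    refine ⟨-k', (shiftFunctor C (1 : ℤ)).map_injective ?_⟩
    change (shiftFunctor C (1 : ℤ)).map (T.mor₁ ≫ (-k')) = _
    rw [hk]
    simp

end Tri

variable {A : Type u} [CommRing A]

/-- one element: all morphisms from shifts of `A_f` vanish iff the cohomology modules are derived complete. -/
theorem forall_subsingleton_iff (f : A) (K : Dual.D A) :
    (∀ n : ℤ, Subsingleton (Dual.inD A (Localization.Away f) ⟶ K⟦n⟧)) ↔ ∀ n : ℤ, DC f (Dual.HD A K n) := by
  constructor
  · intro h n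
    have hT := (Groth.Agent.LoccohB.DCompCrit.telSES_shortExact f).singleTriangle_distinguished
    have hb := bijective_precomp hT (K⟦n⟧) (fun g => (h n).elim _ _) (fun g => by
      have e := (shiftFunctorAdd' (Dual.D A) n 1 (n + 1) rfl).app K
      have h2 : g ≫ e.inv = 0 := (h (n + 1)).elim _ _
      rw [← cancel_mono e.inv, h2, zero_comp])
    have h1 := Groth.Agent.LoccohB.DCompCrit.homSeq_bijective 0 (K⟦n⟧)
    have h2 : Groth.Agent.LoccohB.DCompCrit.homSeq 0 (K⟦n⟧) ∘
        (fun g => (DerivedCategory.singleFunctor (ModuleCat.{u} A) 0).map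
          (Groth.Agent.LoccohB.DCompCrit.telSES f).f ≫ g) =
        Groth.Agent.LoccohB.DCompCrit.seqMap f ∘ Groth.Agent.LoccohB.DCompCrit.homSeq 0 (K⟦n⟧) := by
      funext g
      exact Groth.Agent.LoccohB.DCompCrit.homSeq_tel 0 (K⟦n⟧) f g
    have h3 : Function.Bijective (Groth.Agent.LoccohB.DCompCrit.seqMap (M := Dual.HD A (K⟦n⟧) 0) f) := by
      refine (Function.Bijective.of_comp_iff _ h1).1 ?_
      rw [← h2]
      exact h1.comp hb
    exact DC.of_equiv (f := f) (M := Dual.HD A (K⟦n⟧) 0) h3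
      (Groth.Agent.LoccohB.DualShift.shiftHD K n 0 n (add_zero n)).toLinearEquiv
  · intro h n
    apply Groth.Agent.LoccohB.DCompCrit.subsingleton_of_seq f
    intro i
    exact Groth.Agent.LoccohB.DCompCrit.seqMap_bijective_of_equiv f
      (Groth.Agent.LoccohB.DualShift.shiftHD K n i (n + i) rfl).symm.toLinearEquiv (h (n + i))

theorem isDerivedComplete_iff (I : Ideal A) (K : Dual.D A) :
    DRing.IsDerivedComplete I K ↔ ∀ f ∈ I, ∀ n : ℤ, DC f (Dual.HD A K n) :=
  forall₂_congr fun f _ => forall_subsingleton_iff f K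

/-- `H^0(M[0]) = M`. -/
noncomputable def inDIso (M : Type u) [AddCommGroup M] [Module A M] : Dual.HD A (Dual.inD A M) 0 ≃ₗ[A] M :=
  ((DerivedCategory.singleFunctorCompHomologyFunctorIso (ModuleCat.{u} A) 0).app (ModuleCat.of A M)).toLinearEquiv

lemma subsingleton_HD_inD (M : Type u) [AddCommGroup M] [Module A M] (n : ℤ) (hn : n ≠ 0) :
    Subsingleton (Dual.HD A (Dual.inD A M) n) := by
  rw [← ModuleCat.isZero_iff_subsingleton]
  rcases lt_or_gt_of_ne hn with h | h
  · exact DerivedCategory.isZero_of_isGE _ 0 n h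
  · exact DerivedCategory.isZero_of_isLE _ 0 n h

theorem isDerivedComplete_inD_iff (I : Ideal A) (M : Type u) [AddCommGroup M] [Module A M] :
    DRing.IsDerivedComplete I (Dual.inD A M) ↔ ∀ f ∈ I, DC f M := by
  rw [isDerivedComplete_iff]
  refine forall₂_congr fun f _ => ⟨fun h => (h 0).of_equiv (inDIso M), fun h n => ?_⟩
  by_cases hn : n = 0
  · subst hn
    exact h.of_equiv (inDIso M).symm
  · have := subsingleton_HD_inD (A := A) M n hn
    exact dc_of_subsingleton

end K230.DCLink
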