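import Groth.Agent.DRing.K227.LbcFlat
import Groth.Agent.Ega3B.TFunBC
import Groth.Agent.LoccohB.LTen

/-!
# `K ⊗^L_A B` computed with `LTensor` and with `LBaseChange`

`nonempty_lten_iso_restrict_lbc`: `(LTensor A B).obj K ≅ (restrictD φ).obj ((LBaseChange φ).obj K)`, any `K`.
-/

set_option autoImplicit false

universe u

open CategoryTheory CategoryTheory.Limits CategoryTheory.Functor MonoidalCategory

attribute [local instance] HasDerivedCategory.standard

namespace K230.LTenQuot

open DerivedCategory Groth.Agent.LoccohB Groth.Agent.Ega3B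

variable {A B : Type u} [CommRing A] [CommRing B]

/-- `LTensor A M` on K-projective complexes -/
noncomputable def ltenKProjIso (M : ModuleCat.{u} A) [DRing.HasLTensor A M] (P : DRing.Cx A) [P.IsKProjective] :
    (DRing.LTensor A M).obj (Q.obj P) ≅ Q.obj (DRing.tensorCx P M) :=
  @asIso _ _ _ _ ((K227.LbcFlat.lfQCounit (tensorRight M)).app P)
    (K227.LbcFlat.isIso_lfQCounit_app (tensorRight M) P)

/-- isomorphic functors give isomorphic functors on complexes -/
noncomputable def mapCxIso {F G : ModuleCat.{u} A ⥤ ModuleCat.{u} B} [F.Additive] [G.Additive] (e : F ≅ G)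
    (P : DRing.Cx A) : (F.mapHomologicalComplex (ComplexShape.up ℤ)).obj P ≅
      (G.mapHomologicalComplex (ComplexShape.up ℤ)).obj P :=
  HomologicalComplex.Hom.isoOfComponents (fun i => e.app (P.X i))
    (fun i j _ => (e.hom.naturality (P.d i j)).symm)

variable (φ : A →+* B)

theorem nonempty_lten_iso_restrict_lbc (M : ModuleCat.{u} A) (e : M ≅ TFunBC.resB φ) [DRing.HasLTensor A M]
    [DRing.HasLBaseChange φ] (K : Dual.D A) :
    Nonempty ((DRing.LTensor A M).obj K ≅ (DRing.restrictD φ).obj ((DRing.LBaseChange φ).obj K)) := by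
  obtain ⟨P, hP, ⟨eP⟩⟩ := LTen.exists_kproj K
  let F : ModuleCat.{u} A ⥤ ModuleCat.{u} A := ModuleCat.extendScalars.{u, u, u} φ ⋙ ModuleCat.restrictScalars.{u} φ
  let eF : tensorRight M ≅ F := (tensoringRight (ModuleCat.{u} A)).mapIso e ≪≫ (TFunBC.extResIso φ).symm
  have : F.Additive := inferInstance
  let E : DRing.Cx B := ((ModuleCat.extendScalars.{u, u, u} φ).mapHomologicalComplex (ComplexShape.up ℤ)).obj P
  let i1 : (DRing.LTensor A M).obj K ≅ Q.obj (DRing.tensorCx P M) :=
    ((DRing.LTensor A M).mapIso eP).symm ≪≫ ltenKProjIso M P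
  let i2 : Q.obj (DRing.tensorCx P M) ≅
      Q.obj (((ModuleCat.restrictScalars.{u} φ).mapHomologicalComplex (ComplexShape.up ℤ)).obj E) :=
    Q.mapIso (mapCxIso eF P)
  let i3 : Q.obj (((ModuleCat.restrictScalars.{u} φ).mapHomologicalComplex (ComplexShape.up ℤ)).obj E) ≅
      (DRing.restrictD φ).obj (Q.obj E) :=
    ((ModuleCat.restrictScalars.{u} φ).mapDerivedCategoryFactors.app E).symm
  let i4 : (DRing.restrictD φ).obj (Q.obj E) ≅ (DRing.restrictD φ).obj ((DRing.LBaseChange φ).obj K) :=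
    (DRing.restrictD φ).mapIso ((LBC.lbcQIso φ P).symm ≪≫ (DRing.LBaseChange φ).mapIso eP)
  exact ⟨i1 ≪≫ i2 ≪≫ i3 ≪≫ i4⟩

lemma subsingleton_HD_restrictD_iff (L : Dual.D B) (i : ℤ) :
    Subsingleton (Dual.HD A ((DRing.restrictD φ).obj L) i) ↔ Subsingleton (Dual.HD B L i) := by
  let e := (DBase.mapDerivedCategoryHomologyIso (ModuleCat.restrictScalars.{u} φ) i).app L
  have h1 : Subsingleton (Dual.HD A ((DRing.restrictD φ).obj L) i) ↔
      Subsingleton ((ModuleCat.restrictScalars.{u} φ).obj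
        ((DerivedCategory.homologyFunctor (ModuleCat.{u} B) i).obj L)) :=
    e.toLinearEquiv.toEquiv.subsingleton_congr
  exact h1

end K230.LTenQuot
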