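import Groth.Agent.S6974
import Groth.Agent.DRing.K228.GlDim
import Groth.Agent.DRing.K227.FlatBC
import Groth.Agent.DRing.K230.LTenQuot
import Groth.Agent.LoccohB.BeckChev
import Mathlib.RingTheory.LocalRing.ResidueField.Ideal

/-!
# Pseudo-coherent complexes over flat algebras with fibres of finite global dimension
-/

set_option autoImplicit false

universe u

open CategoryTheory CategoryTheory.Limits CategoryTheory.Functor TensorProduct

attribute [local instance] HasDerivedCategory.standard

namespace K230.FibreGl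

open DerivedCategory Groth.Agent.LoccohB Groth.Agent.LoccohB.BCUnit K230.LTenQuot

section BC

variable (C C' B B' : Type u) [CommRing C] [CommRing C'] [CommRing B] [CommRing B']
  [Algebra C C'] [Algebra C B] [Algebra C' B'] [Algebra B B'] [Algebra C B']
  [IsScalarTower C C' B'] [IsScalarTower C B B'] [Algebra.IsPushout C C' B B'] [Module.Flat C B]
  [DRing.HasLBaseChange (algebraMap B B')] [DRing.HasLBaseChange (algebraMap C C')]

/-- flat base change: `(K ⊗^L_B B')|_{C'} ≅ K|_C ⊗^L_C C'` for `B` flat over `C` and `K` pseudo-coherent. -/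
theorem nonempty_bcIso (K : Dual.D B) (hK : DRing.IsPseudoCoherent' B K) :
    Nonempty ((DRing.restrictD (algebraMap C' B')).obj ((DRing.LBaseChange (algebraMap B B')).obj K) ≅
      (DRing.LBaseChange (algebraMap C C')).obj ((DRing.restrictD (algebraMap C B)).obj K)) := by
  obtain ⟨F, b, hb, hF, ⟨e⟩⟩ := hK
  have hFf : DRing.TermwiseFlat F := fun i => by
    have := (hF i).2
    infer_instance
  obtain ⟨e1⟩ := K227.LbcFlat.nonempty_lbc_iso (algebraMap B B') F b hb hFf
  let F' : DRing.Cx C := ((ModuleCat.restrictScalars.{u} (algebraMap C B)).mapHomologicalComplex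
    (ComplexShape.up ℤ)).obj F
  have hb' : DRing.VanishesAbove F' b := fun i hi =>
    (ModuleCat.restrictScalars.{u} (algebraMap C B)).map_isZero (hb i hi)
  have hF' : DRing.TermwiseFlat F' := fun i => by
    have h1 : Module.Flat B (F.X i) := hFf i
    let _ : Module C (F.X i) := Module.compHom (F.X i) (algebraMap C B)
    have : IsScalarTower C B (F.X i) := ⟨fun c x m => by
      rw [Algebra.smul_def, mul_smul]; rfl⟩
    exact Module.Flat.trans C B (F.X i)
  obtain ⟨e2⟩ := K227.LbcFlat.nonempty_lbc_iso (algebraMap C C') F' b hb' hF'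
  let i1 : (DRing.restrictD (algebraMap C' B')).obj ((DRing.LBaseChange (algebraMap B B')).obj K) ≅
      (DRing.restrictD (algebraMap C' B')).obj (DRing.toD ((extCx (algebraMap B B')).obj F)) :=
    (DRing.restrictD (algebraMap C' B')).mapIso ((DRing.LBaseChange (algebraMap B B')).mapIso e.symm ≪≫ e1)
  let i2 : (DRing.restrictD (algebraMap C' B')).obj (DRing.toD ((extCx (algebraMap B B')).obj F)) ≅
      DRing.toD (((ModuleCat.restrictScalars.{u} (algebraMap C' B')).mapHomologicalComplex
        (ComplexShape.up ℤ)).obj ((extCx (algebraMap B B')).obj F)) :=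
    (ModuleCat.restrictScalars.{u} (algebraMap C' B')).mapDerivedCategoryFactors.app _
  let i3 : DRing.toD (((ModuleCat.restrictScalars.{u} (algebraMap C' B')).mapHomologicalComplex
        (ComplexShape.up ℤ)).obj ((extCx (algebraMap B B')).obj F)) ≅
      DRing.toD ((extCx (algebraMap C C')).obj F') :=
    Q.mapIso (mapCxIso (BeckChev.bcIso C C' B B').symm F)
  let i4 : (DRing.LBaseChange (algebraMap C C')).obj (DRing.toD F') ≅
      (DRing.LBaseChange (algebraMap C C')).obj ((DRing.restrictD (algebraMap C B)).obj K) :=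
    (DRing.LBaseChange (algebraMap C C')).mapIso
      (((ModuleCat.restrictScalars.{u} (algebraMap C B)).mapDerivedCategoryFactors.app F).symm ≪≫
        (DRing.restrictD (algebraMap C B)).mapIso e)
  exact ⟨i1 ≪≫ i2 ≪≫ i3 ≪≫ e2.symm ≪≫ i4⟩

end BC

lemma subsingleton_of_torAmp {R : Type u} [CommRing R] {a b : ℤ} {K : Dual.D R}
    (h : DRing.HasTorAmplitudeIn R a b K) (i : ℤ) (hi : i < a ∨ b < i) : Subsingleton (Dual.HD R K i) := by
  obtain ⟨E, h1, -, ⟨e⟩⟩ := h
  exact K228.TorPerf.isZero_hd_of_vanishes E e i (h1 i hi)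

/-- A ring all of whose modules have projective dimension `≤ d`. -/
lemma torAmp_of_glDim {R : Type u} [CommRing R] (d : ℕ)
    (hgl : ∀ (M : Type u) [AddCommGroup M] [Module R M],
      HasProjectiveDimensionLT (ModuleCat.of R M) (d + 1)) (K : Dual.D R) (a b : ℤ)
    (h : ∀ i : ℤ, (i < a ∨ b < i) → Subsingleton (Dual.HD R K i)) : DRing.HasTorAmplitudeIn R (a - d) b K := by
  obtain ⟨E, h1, h2, h3⟩ := K228.GlDim.exists_projective_rep d hgl K a b (fun i hi => h i (Or.inr hi))
    (fun i hi => h i (Or.inl hi))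
  refine ⟨E, h1, fun i => ?_, h3⟩
  have := h2 i
  infer_instance

section Main

variable {A B : Type u} [CommRing A] [CommRing B] [Algebra A B]

attribute [local instance] Algebra.TensorProduct.rightAlgebra in
/-- the fibre at `p = m ∩ A` maps to `B/m`. -/
lemma exists_fibre_map (m : Ideal B) [hm : m.IsMaximal] (p : Ideal A) [p.IsPrime]
    (hp : m.comap (algebraMap A B) = p) :
    ∃ ψ : (p.ResidueField ⊗[A] B) →+* B ⧸ m, Ideal.Quotient.mk m = ψ.comp (algebraMap B (p.ResidueField ⊗[A] B)) := by
  let f : A →ₐ[A] B ⧸ m := Algebra.ofId A (B ⧸ m)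
  have hf : ∀ x, f x = 0 ↔ x ∈ p := by
    intro x
    rw [← hp, Ideal.mem_comap, ← Ideal.Quotient.eq_zero_iff_mem]
    rfl
  have hfield := (Ideal.Quotient.maximal_ideal_iff_isField_quotient m).1 hm
  let g : p.ResidueField →ₐ[A] B ⧸ m := Ideal.ResidueField.liftₐ p f (fun x hx => (hf x).2 hx) (by
    intro x hx
    have hx' : f x ≠ 0 := fun h => hx ((hf x).1 h)
    obtain ⟨y, hy⟩ := hfield.mul_inv_cancel hx'
    exact IsUnit.of_mul_eq_one y hy)
  let h : B →ₐ[A] B ⧸ m := Ideal.Quotient.mkₐ A m
  refine ⟨(Algebra.TensorProduct.lift g h (fun _ _ => Commute.all _ _)).toRingHom, ?_⟩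
  refine RingHom.ext fun x => ?_
  have h1 : Algebra.TensorProduct.lift g h (fun _ _ => Commute.all _ _) ((1 : p.ResidueField) ⊗ₜ[A] x) = h x := by
    rw [Algebra.TensorProduct.lift_tmul, map_one, one_mul]
  exact h1.symm

attribute [local instance] Algebra.TensorProduct.rightAlgebra in
theorem main [Module.Flat A B] (d : ℕ)
    (hgl : ∀ (p : PrimeSpectrum A) (M : Type u) [AddCommGroup M]
      [Module (TensorProduct A p.asIdeal.ResidueField B) M],
      HasProjectiveDimensionLT (ModuleCat.of (TensorProduct A p.asIdeal.ResidueField B) M) (d + 1))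
    (a b : ℤ) (K : Dual.D B)
    (hK : DRing.IsPseudoCoherent' B K)
    (hKa : DRing.HasTorAmplitudeIn A a b ((DRing.restrictD (algebraMap A B)).obj K)) :
    DRing.IsPerfect B K ∧ DRing.HasTorAmplitudeIn B (a - d) b K := by
  have hB : ∀ m : Ideal B, DRing.HasLBaseChange (Ideal.Quotient.mk m) := fun m => LBC.hasLBaseChange _
  refine Groth.Agent.S6974.result B K hK (a - d) b (fun m hm i hi => ?_)
  let p : Ideal A := m.comap (algebraMap A B)
  have hp : p.IsPrime := Ideal.IsPrime.comap _
  let C := p.ResidueField ⊗[A] B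
  obtain ⟨ψ, hψ⟩ := exists_fibre_map (A := A) m p rfl
  have h1 : DRing.HasLBaseChange (algebraMap B C) := LBC.hasLBaseChange _
  have h2 : DRing.HasLBaseChange ψ := LBC.hasLBaseChange _
  have h3 : DRing.HasLBaseChange (algebraMap A p.ResidueField) := LBC.hasLBaseChange _
  have e := (LBC.lbcComp (algebraMap B C) ψ (Ideal.Quotient.mk m) hψ).app K
  have h4 : ∀ i : ℤ, (i < a ∨ b < i) → Subsingleton (Dual.HD C ((DRing.LBaseChange (algebraMap B C)).obj K) i) := by
    intro i hi
    rw [← subsingleton_HD_restrictD_iff (algebraMap p.ResidueField C)]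
    obtain ⟨e'⟩ := nonempty_bcIso A p.ResidueField B C K hK
    have h5 := subsingleton_of_torAmp (K227.FlatBC.torAmp_lbc (algebraMap A p.ResidueField) _ a b hKa) i hi
    exact ((homologyFunctor (ModuleCat.{u} p.ResidueField) i).mapIso e').toLinearEquiv.toEquiv.subsingleton
  have h6 : DRing.HasTorAmplitudeIn C (a - d) b ((DRing.LBaseChange (algebraMap B C)).obj K) :=
    torAmp_of_glDim d (fun M _ _ => hgl ⟨p, hp⟩ M) _ a b h4
  have h7 := subsingleton_of_torAmp (K227.FlatBC.torAmp_lbc ψ _ _ _ h6) i hi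
  exact @Equiv.subsingleton _ _ ((homologyFunctor (ModuleCat.{u} (B ⧸ m)) i).mapIso e).symm.toLinearEquiv.toEquiv h7

end Main

end K230.FibreGl
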