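import Groth.Agent.LoccohB.FinInj
import Groth.Agent.LoccohB.DualShift
import Groth.Agent.DRing.K229.Devissage
import Mathlib.Algebra.Category.ModuleCat.Injective

/-!
# Complexes of finite injective dimension form a triangulated subcategory
-/

set_option autoImplicit false

universe u

open CategoryTheory CategoryTheory.Limits CategoryTheory.Pretriangulated

open scoped ZeroObject

attribute [local instance] HasDerivedCategory.standard

namespace K230.FinInjDim

open Groth.Agent.LoccohB DerivedCategory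

variable {R : Type u} [CommRing R]

/-- injective amplitude in `[a, b]` in the Hom-vanishing form. -/
def Amp (a b : ℤ) (K : Dual.D R) : Prop :=
  ∀ (M : Type u) [AddCommGroup M] [Module R M] (i : ℤ), (i < a ∨ b < i) → Subsingleton (Dual.inD R M ⟶ K⟦i⟧)

theorem hasInjAmplitudeIn_iff (a b : ℤ) (K : Dual.D R) : DRing.HasInjAmplitudeIn R a b K ↔ Amp a b K := by
  constructor
  · rintro ⟨E, hE, hE', ⟨e⟩⟩ M _ _ i hi
    have : E.IsStrictlyGE a := (CochainComplex.isStrictlyGE_iff _ _).2 fun i hi => hE i (Or.inl hi)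
    have : E.IsStrictlyLE b := (CochainComplex.isStrictlyLE_iff _ _).2 fun i hi => hE i (Or.inr hi)
    have hinj : ∀ i, Injective (E.X i) := fun i =>
      (Module.injective_iff_injective_object R (E.X i)).1 (hE' i)
    exact FinInj.subsingleton_of_injective E a b hinj K e M i hi
  · intro h
    obtain ⟨E, h1, h2, h3, h4⟩ := InjRep.exists_injective_representative_of_subsingleton K a b h
    refine ⟨E, fun i hi => ?_, fun i => ?_, h4⟩
    · rcases hi with hi | hi
      · exact E.isZero_of_isStrictlyGE a i hi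
      · exact E.isZero_of_isStrictlyLE b i hi
    · exact (Module.injective_iff_injective_object R (E.X i)).2 (h3 i)

lemma Amp.mono {a b a' b' : ℤ} {K : Dual.D R} (h : Amp a b K) (ha : a' ≤ a) (hb : b ≤ b') : Amp a' b' K :=
  fun M _ _ i hi => h M i (by omega)

lemma Amp.of_iso {a b : ℤ} {K L : Dual.D R} (h : Amp a b K) (e : K ≅ L) : Amp a b L :=
  fun M _ _ i hi => InjRep.subsingleton_of_iso e.symm i (h M i hi)

lemma Amp.shift {a b : ℤ} {K : Dual.D R} (h : Amp a b K) (n : ℤ) : Amp (a - n) (b - n) (K⟦n⟧) :=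
  fun M _ _ i hi => by
    have := h M (n + i) (by omega)
    exact (DualShift.homShift (Dual.inD R M) K n i (n + i) rfl).toEquiv.subsingleton

lemma Amp.obj₂ {a b : ℤ} {T : Triangle (Dual.D R)} (hT : T ∈ distTriang (Dual.D R)) (h1 : Amp a b T.obj₁)
    (h3 : Amp a b T.obj₃) : Amp a b T.obj₂ := fun M _ _ i hi => by
  have key : ∀ g : Dual.inD R M ⟶ T.obj₂⟦i⟧, g = 0 := by
    intro g
    have hT' := Triangle.shift_distinguished _ hT i
    have e1 : g ≫ ((Triangle.shiftFunctor (Dual.D R) i).obj T).mor₂ = 0 := (h3 M i hi).elim _ _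
    obtain ⟨g', hg'⟩ := Triangle.coyoneda_exact₂ _ hT' g e1
    have e2 : g' = 0 := (h1 M i hi).elim _ _
    rw [hg', e2, zero_comp]; rfl
  exact ⟨fun x y => (key x).trans (key y).symm⟩

/-- Objects of finite injective dimension. -/
def fid (R : Type u) [CommRing R] : ObjectProperty (Dual.D R) := fun K => DRing.HasFiniteInjDim R K

lemma fid_iff (K : Dual.D R) : fid R K ↔ ∃ a b : ℤ, Amp a b K :=
  exists₂_congr fun a b => hasInjAmplitudeIn_iff a b K

instance : (fid R).IsClosedUnderIsomorphisms where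
  of_iso e h := by
    rw [fid_iff] at h ⊢
    obtain ⟨a, b, h⟩ := h
    exact ⟨a, b, h.of_iso e⟩

instance : (fid R).IsTriangulated where
  exists_zero := ⟨0, isZero_zero _, by
    rw [fid_iff]
    refine ⟨0, 0, fun M _ _ i _ => ?_⟩
    have h0 : IsZero ((0 : Dual.D R)⟦i⟧) := (shiftFunctor (Dual.D R) i).map_isZero (isZero_zero _)
    exact ⟨fun x y => h0.eq_of_tgt _ _⟩⟩
  isStableUnderShiftBy n := ⟨fun K hK => by
    rw [fid_iff] at hK
    obtain ⟨a, b, h⟩ := hK
    exact (fid_iff _).2 ⟨_, _, h.shift n⟩⟩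
  ext₂' T hT h₁ h₃ := ObjectProperty.le_isoClosure _ _ (by
    rw [fid_iff] at h₁ h₃ ⊢
    obtain ⟨a, b, h⟩ := h₁
    obtain ⟨a', b', h'⟩ := h₃
    exact ⟨min a a', max b b', Amp.obj₂ hT (h.mono (by omega) (by omega)) (h'.mono (by omega) (by omega))⟩)

theorem of_termwise (K : DRing.Cx R) (a b : ℤ) (hab : DRing.VanishesOutside K a b)
    (hK : ∀ i : ℤ, DRing.HasFiniteInjDim R (Dual.inD R (K.X i))) : DRing.HasFiniteInjDim R (DRing.toD K) :=
  Groth.Agent.PerfB.BoundedInd.bounded_induction (fid R) K a b hab hK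

theorem of_homology (K : Dual.D R)
    (hb : ∃ a b : ℤ, ∀ i : ℤ, (i < a ∨ b < i) → Subsingleton (Dual.HD R K i))
    (hK : ∀ i : ℤ, DRing.HasFiniteInjDim R (Dual.inD R (Dual.HD R K i))) : DRing.HasFiniteInjDim R K := by
  obtain ⟨a, b, h⟩ := hb
  refine K229.Devissage.homology (fid R) K a b (fun i hi => ?_) (fun i => ?_)
  · have := h i hi
    exact ModuleCat.isZero_of_subsingleton _
  · exact Groth.Agent.PerfB.BoundedInd.prop_single (fid R) _ (hK i) i

end K230.FinInjDim
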