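import Groth.Agent.LoccohB.FInv
import Groth.Agent.LoccohB.InjRep
import Mathlib.Algebra.Category.ModuleCat.EnoughInjectives

/-!
# Elementwise long exact sequences in `D(A)`, detection by injectives, and cones of multiplications
-/

set_option autoImplicit false

universe u

open CategoryTheory CategoryTheory.Limits CategoryTheory.Pretriangulated

attribute [local instance] HasDerivedCategory.standard

namespace K230.HExact

open DerivedCategory

variable {A : Type u} [CommRing A]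

/-- the linear map on `H^n` -/
noncomputable abbrev hmap {K L : Dual.D A} (g : K ⟶ L) (n : ℤ) : Dual.HD A K n →ₗ[A] Dual.HD A L n :=
  ((homologyFunctor (ModuleCat.{u} A) n).map g).hom

section LES

variable (T : Triangle (Dual.D A)) (hT : T ∈ distTriang (Dual.D A))

/-- the connecting map -/
noncomputable abbrev dlt (n₀ n₁ : ℤ) (h : n₀ + 1 = n₁) : Dual.HD A T.obj₃ n₀ →ₗ[A] Dual.HD A T.obj₁ n₁ :=
  (HomologySequence.δ T n₀ n₁ h).hom

include hT

lemma exact₂ (n : ℤ) : Function.Exact (hmap T.mor₁ n) (hmap T.mor₂ n) :=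
  (ShortComplex.ShortExact.moduleCat_exact_iff_function_exact _).1 (HomologySequence.exact₂ T hT n)

lemma exact₃ (n₀ n₁ : ℤ) (h : n₀ + 1 = n₁) : Function.Exact (hmap T.mor₂ n₀) (dlt T n₀ n₁ h) :=
  (ShortComplex.ShortExact.moduleCat_exact_iff_function_exact _).1 (HomologySequence.exact₃ T hT n₀ n₁ h)

lemma exact₁ (n₀ n₁ : ℤ) (h : n₀ + 1 = n₁) : Function.Exact (dlt T n₀ n₁ h) (hmap T.mor₁ n₁) :=
  (ShortComplex.ShortExact.moduleCat_exact_iff_function_exact _).1 (HomologySequence.exact₁ T hT n₀ n₁ h)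

end LES

lemma hmap_smul_id (f : A) (K : Dual.D A) (n : ℤ) (x : Dual.HD A K n) : hmap (f • 𝟙 K) n x = f • x := by
  unfold hmap
  rw [← Groth.Agent.LoccohB.FInv.smul_homology]
  rfl

/-- `H^i` is detected by morphisms to injective modules. -/
theorem subsingleton_HD_of_injective (X : Dual.D A) (i : ℤ)
    (h : ∀ (E : ModuleCat.{u} A), Injective E → ∀ g : X ⟶ (singleFunctor (ModuleCat.{u} A) i).obj E, g = 0) :
    Subsingleton (Dual.HD A X i) := by
  obtain ⟨C, ⟨e⟩⟩ : ∃ C : DRing.Cx A, Nonempty (Q.obj C ≅ X) := ⟨_, ⟨Q.objObjPreimageIso X⟩⟩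
  let J : ModuleCat.{u} A := Injective.under (C.homology i)
  let ι : C.homology i ⟶ J := Injective.ι (C.homology i)
  let r : C.opcycles i ⟶ J := Injective.factorThru ι (C.homologyι i)
  have hr : C.homologyι i ≫ r = ι := Injective.comp_factorThru ι (C.homologyι i)
  let g : C ⟶ (HomologicalComplex.single (ModuleCat.{u} A) (ComplexShape.up ℤ) i).obj J :=
    HomologicalComplex.mkHomToSingle (C.pOpcycles i ≫ r) (fun k hk => by
      rw [HomologicalComplex.d_pOpcycles_assoc, zero_comp])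
  have hg : Q.map g = 0 := by
    have h1 : e.inv ≫ Q.map g = 0 := h J inferInstance (e.inv ≫ Q.map g)
    have h2 : e.hom ≫ e.inv ≫ Q.map g = 0 := by rw [h1, comp_zero]
    rwa [Iso.hom_inv_id_assoc] at h2
  have hg0 : (Q ⋙ homologyFunctor (ModuleCat.{u} A) i).map g = 0 := by
    rw [Functor.comp_map, hg]
    exact Functor.map_zero _ _ _
  have hg' : HomologicalComplex.homologyMap g i = 0 := by
    have h1 := NatIso.naturality_1 (homologyFunctorFactors (ModuleCat.{u} A) i) g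
    rw [hg0, zero_comp, comp_zero] at h1
    exact h1.symm
  have h2 : HomologicalComplex.opcyclesMap g i ≫
      (HomologicalComplex.singleObjOpcyclesSelfIso (ComplexShape.up ℤ) i J).inv = r := by
    rw [← cancel_epi (C.pOpcycles i), HomologicalComplex.p_opcyclesMap_assoc,
      HomologicalComplex.pOpcycles_singleObjOpcyclesSelfIso_inv]
    simp [g]
  have h3 : ι = 0 := by
    rw [← hr, ← h2, ← HomologicalComplex.homologyι_naturality_assoc, hg', zero_comp]
  have h4 : IsZero (C.homology i) := by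
    have : Mono ι := inferInstance
    exact IsZero.of_mono_eq_zero ι h3
  have h5 : IsZero ((homologyFunctor (ModuleCat.{u} A) i).obj X) :=
    h4.of_iso ((homologyFunctor (ModuleCat.{u} A) i).mapIso e.symm ≪≫
      (homologyFunctorFactors (ModuleCat.{u} A) i).app C)
  exact ModuleCat.subsingleton_of_isZero h5

section Cone

/-- a cone of multiplication by `f` on `X` -/
structure MulCone (f : A) (X C : Dual.D A) where
  p : X ⟶ C
  δ : C ⟶ X⟦(1 : ℤ)⟧
  dist : Triangle.mk (f • 𝟙 X) p δ ∈ distTriang (Dual.D A)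

lemma exists_mulCone (f : A) (X : Dual.D A) : ∃ C : Dual.D A, Nonempty (MulCone f X C) := by
  obtain ⟨C, p, δ, h⟩ := distinguished_cocone_triangle (f • 𝟙 X)
  exact ⟨C, ⟨⟨p, δ, h⟩⟩⟩

variable {f : A} {X C Y D : Dual.D A}

/-- if `X[1]` has no morphisms to the cone of `f` on `Y` then the cone of `f` on `X` has no morphism to `Y` -/
theorem MulCone.orth (c : MulCone f X C) (d : MulCone f Y D) (h : ∀ g : X⟦(1 : ℤ)⟧ ⟶ D, g = 0) (g : C ⟶ Y) :
    g = 0 := by
  -- `p ≫ g = 0`
  have h1 : c.p ≫ g = 0 := by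
    apply (shiftFunctor (Dual.D A) (1 : ℤ)).map_injective
    rw [Functor.map_zero]
    have hf : c.p ≫ g ≫ (f • 𝟙 Y) = 0 := by
      rw [Linear.comp_smul, Category.comp_id, Linear.comp_smul, ← Linear.smul_comp]
      have h2 : (f • 𝟙 X) ≫ c.p = 0 := comp_distTriang_mor_zero₁₂ _ c.dist
      rw [Linear.smul_comp, Category.id_comp] at h2
      rw [h2, zero_comp]
    have hT := rot_of_distTriang _ (rot_of_distTriang _ d.dist)
    have h3 : ∃ k : X⟦(1 : ℤ)⟧ ⟶ D, (c.p ≫ g)⟦(1 : ℤ)⟧' = k ≫ d.δ :=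
      Triangle.coyoneda_exact₂ _ hT ((c.p ≫ g)⟦(1 : ℤ)⟧') (by
        change (c.p ≫ g)⟦(1 : ℤ)⟧' ≫ (-(f • 𝟙 Y)⟦(1 : ℤ)⟧') = 0
        rw [Preadditive.comp_neg, ← Functor.map_comp, Category.assoc, hf, Functor.map_zero, neg_zero])
    obtain ⟨k, hk⟩ := h3
    rw [hk, h k, zero_comp]
  obtain ⟨g', hg'⟩ : ∃ g' : X⟦(1 : ℤ)⟧ ⟶ Y, g = c.δ ≫ g' := Triangle.yoneda_exact₃ _ c.dist g h1
  obtain ⟨k, hk⟩ : ∃ k : X⟦(1 : ℤ)⟧ ⟶ Y, g' = k ≫ (f • 𝟙 Y) :=
    Triangle.coyoneda_exact₂ _ d.dist g' (h _)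
  have h4 : c.δ ≫ (f • 𝟙 X)⟦(1 : ℤ)⟧' = 0 := comp_distTriang_mor_zero₃₁ _ c.dist
  have h5 : f • c.δ = 0 := by
    rw [Functor.map_smul, CategoryTheory.Functor.map_id, Linear.comp_smul, Category.comp_id] at h4
    exact h4
  rw [hg', hk, Linear.comp_smul, Category.comp_id, Linear.comp_smul, ← Linear.smul_comp, h5, zero_comp]

end Cone

end K230.HExact
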