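import Groth.Agent.DRing.K230.TorsOrth
import Groth.Agent.DRing.K230.LTenQuot
import Groth.Agent.LoccohB.DCalc

/-!
# Derived complete objects: `K ∈ D^{≤ 0}` iff `K ⊗^L A/I ∈ D^{≤ 0}`, and derived Nakayama
-/

set_option autoImplicit false

universe u

open CategoryTheory CategoryTheory.Limits CategoryTheory.Pretriangulated

attribute [local instance] HasDerivedCategory.standard

namespace K230.QuotCrit

open DerivedCategory K230.HExact K230.DCSeq K230.TorsOrth K230.LTenQuot Groth.Agent.LoccohB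

variable {A B : Type u} [CommRing A] [CommRing B]

lemma isLE_of_subsingleton {K : Dual.D A} {n : ℤ} (h : ∀ i, n < i → Subsingleton (Dual.HD A K i)) : K.IsLE n := by
  rw [DerivedCategory.isLE_iff]
  intro i hi
  have := h i hi
  exact ModuleCat.isZero_of_subsingleton _

lemma isGE_of_subsingleton {K : Dual.D A} {n : ℤ} (h : ∀ i, i < n → Subsingleton (Dual.HD A K i)) : K.IsGE n := by
  rw [DerivedCategory.isGE_iff]
  intro i hi
  have := h i hi
  exact ModuleCat.isZero_of_subsingleton _

lemma subsingleton_of_isLE (K : Dual.D A) (n i : ℤ) (hi : n < i) [K.IsLE n] : Subsingleton (Dual.HD A K i) :=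
  ModuleCat.subsingleton_of_isZero (DerivedCategory.isZero_of_isLE K n i hi)

lemma subsingleton_of_isGE (K : Dual.D A) (n i : ℤ) (hi : i < n) [K.IsGE n] : Subsingleton (Dual.HD A K i) :=
  ModuleCat.subsingleton_of_isZero (DerivedCategory.isZero_of_isGE K n i hi)

lemma isGE_restrictD (φ : A →+* B) (L : Dual.D B) (n : ℤ) [L.IsGE n] : ((DRing.restrictD φ).obj L).IsGE n :=
  isGE_of_subsingleton fun i hi => (subsingleton_HD_restrictD_iff φ L i).2 (subsingleton_of_isGE L n i hi)

/-- derived base change is right t-exact -/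
lemma isLE_lbc (φ : A →+* B) [DRing.HasLBaseChange φ] (K : Dual.D A) (n : ℤ) [K.IsLE n] :
    ((DRing.LBaseChange φ).obj K).IsLE n := by
  refine isLE_of_subsingleton fun i hi => ?_
  refine subsingleton_HD_of_injective _ i fun E _ g => ?_
  apply ((LBC.lbcAdj φ).homEquiv _ _).injective
  have h1 : ((singleFunctor (ModuleCat.{u} B) i).obj E).IsGE (n + 1) := TStructure.t.isGE_of_ge _ (n + 1) i (by omega)
  have := isGE_restrictD φ ((singleFunctor (ModuleCat.{u} B) i).obj E) (n + 1)
  have key : ∀ g' : K ⟶ (DRing.restrictD φ).obj ((singleFunctor (ModuleCat.{u} B) i).obj E), g' = 0 := fun g' =>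
    TStructure.t.zero g' n (n + 1) (by omega)
  exact (key _).trans (key _).symm

lemma baseHyp_of_isLE (I : Ideal A) [DRing.HasLBaseChange (Ideal.Quotient.mk I)] (K : Dual.D A)
    (h : ((DRing.LBaseChange (Ideal.Quotient.mk I)).obj K).IsLE 0) : BaseHyp I K := by
  intro L hL g
  have h1 : ∀ g' : (DRing.LBaseChange (Ideal.Quotient.mk I)).obj K ⟶ L, g' = 0 := fun g' =>
    TStructure.t.zero g' 0 1 (by omega)
  apply ((LBC.lbcAdj (Ideal.Quotient.mk I)).homEquiv _ _).symm.injective
  exact (h1 _).trans (h1 _).symm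

/-- if `K` is derived complete w.r.t. the f.g. ideal `I` and `K ⊗^L A/I ∈ D^{≤ 0}` then `K ∈ D^{≤ 0}` -/
theorem subsingleton_HD_of_lbc {I : Ideal A} (hI : I.FG) [DRing.HasLBaseChange (Ideal.Quotient.mk I)]
    (K : Dual.D A) (hc : DRing.IsDerivedComplete I K)
    (h : ((DRing.LBaseChange (Ideal.Quotient.mk I)).obj K).IsLE 0) (i : ℤ) (hi : 0 < i) :
    Subsingleton (Dual.HD A K i) := by
  obtain ⟨s, rfl⟩ := hI
  rw [DCLink.isDerivedComplete_iff] at hc
  have hl : Ideal.ofList s.toList = Ideal.span (s : Set A) := by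
    unfold Ideal.ofList
    congr 1
    ext x
    simp
  refine subsingleton_HD_of_good s.toList K (fun Y hY => ?_) (fun a ha n => hc a ?_ n) i (by omega)
  · refine Bd.orth_of_baseHyp (l := s.toList) ?_ hY
    have := baseHyp_of_isLE (Ideal.span (s : Set A)) K h
    rw [hl]
    exact this
  · exact Ideal.subset_span (by simpa using ha)

/-- the canonical identification of `A/I` with `A/I` as a module by restriction of scalars -/
noncomputable def quotIso (I : Ideal A) : ModuleCat.of A (A ⧸ I) ≅ Groth.Agent.Ega3B.TFunBC.resB (Ideal.Quotient.mk I) :=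
  let e : (A ⧸ I) ≃ₗ[A] (Groth.Agent.Ega3B.TFunBC.resB (Ideal.Quotient.mk I)) :=
    { AddEquiv.refl (A ⧸ I) with
      map_smul' := fun a x => by
        obtain ⟨x, rfl⟩ := Ideal.Quotient.mk_surjective x
        rfl }
  e.toModuleIso

lemma subsingleton_lten_iff (I : Ideal A) [DRing.HasLTensor A (ModuleCat.of A (A ⧸ I))]
    [DRing.HasLBaseChange (Ideal.Quotient.mk I)] (K : Dual.D A) (i : ℤ) :
    Subsingleton (Dual.HD A ((DRing.LTensor A (ModuleCat.of A (A ⧸ I))).obj K) i) ↔
      Subsingleton (Dual.HD (A ⧸ I) ((DRing.LBaseChange (Ideal.Quotient.mk I)).obj K) i) := by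
  obtain ⟨e⟩ := nonempty_lten_iso_restrict_lbc (Ideal.Quotient.mk I) (ModuleCat.of A (A ⧸ I)) (quotIso I) K
  rw [← subsingleton_HD_restrictD_iff (Ideal.Quotient.mk I)]
  exact ((homologyFunctor (ModuleCat.{u} A) i).mapIso e).toLinearEquiv.toEquiv.subsingleton_congr

theorem pos_vanishing_iff {I : Ideal A} (hI : I.FG) [DRing.HasLTensor A (ModuleCat.of A (A ⧸ I))]
    (K : Dual.D A) (hc : DRing.IsDerivedComplete I K) :
    (∀ i : ℤ, 0 < i → Subsingleton (Dual.HD A K i)) ↔
      ∀ i : ℤ, 0 < i → Subsingleton (Dual.HD A ((DRing.LTensor A (ModuleCat.of A (A ⧸ I))).obj K) i) := by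
  have := LBC.hasLBaseChange (Ideal.Quotient.mk I)
  constructor
  · intro h i hi
    rw [subsingleton_lten_iff]
    have := isLE_of_subsingleton h
    have := isLE_lbc (Ideal.Quotient.mk I) K 0
    exact subsingleton_of_isLE _ 0 i hi
  · intro h i hi
    refine subsingleton_HD_of_lbc hI K hc (isLE_of_subsingleton fun i hi => ?_) i hi
    rw [← subsingleton_lten_iff]
    exact h i hi

lemma isDerivedComplete_shift {I : Ideal A} {K : Dual.D A} (hc : DRing.IsDerivedComplete I K) (n : ℤ) :
    DRing.IsDerivedComplete I (K⟦n⟧) := by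
  rw [DCLink.isDerivedComplete_iff] at hc ⊢
  intro f hf i
  exact (hc f hf (n + i)).of_equiv (DualShift.shiftHD K n i (n + i) rfl).symm.toLinearEquiv

theorem isZero_of_lten {I : Ideal A} (hI : I.FG) [DRing.HasLTensor A (ModuleCat.of A (A ⧸ I))]
    (K : Dual.D A) (hc : DRing.IsDerivedComplete I K)
    (h0 : IsZero ((DRing.LTensor A (ModuleCat.of A (A ⧸ I))).obj K)) : IsZero K := by
  have := LBC.hasLBaseChange (Ideal.Quotient.mk I)
  have h1 : ∀ i, Subsingleton (Dual.HD (A ⧸ I) ((DRing.LBaseChange (Ideal.Quotient.mk I)).obj K) i) := by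
    intro i
    rw [← subsingleton_lten_iff]
    exact ModuleCat.subsingleton_of_isZero ((homologyFunctor (ModuleCat.{u} A) i).map_isZero h0)
  rw [DCalc.isZero_iff]
  intro i
  have h2 : Subsingleton (Dual.HD A (K⟦i - 1⟧) 1) := by
    refine subsingleton_HD_of_lbc hI _ (isDerivedComplete_shift hc (i - 1)) (isLE_of_subsingleton fun j _ => ?_) 1
      (by omega)
    have e1 := (homologyFunctor (ModuleCat.{u} (A ⧸ I)) j).mapIso (LBC.lbcShiftIso (Ideal.Quotient.mk I) K (i - 1))
    have e2 := DualShift.shiftHD ((DRing.LBaseChange (Ideal.Quotient.mk I)).obj K) (i - 1) j (i - 1 + j) rfl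
    have := h1 (i - 1 + j)
    exact (e1 ≪≫ e2).toLinearEquiv.toEquiv.subsingleton
  have e := DualShift.shiftHD K (i - 1) 1 i (by omega)
  have : Subsingleton (Dual.HD A K i) := e.symm.toLinearEquiv.toEquiv.subsingleton
  exact ModuleCat.isZero_of_subsingleton _

end K230.QuotCrit
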