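import Groth.Agent.LoccohB.LTen
import Groth.Agent.LoccohB.PerfTri
import Mathlib.Order.Interval.Finset.Defs
import Mathlib.Data.Int.Interval

/-!
# The tensor product of bounded above complexes of finite free modules
-/

set_option autoImplicit false

universe u

open CategoryTheory CategoryTheory.Limits MonoidalCategory

attribute [local instance] HasDerivedCategory.standard

namespace K230.TenFree

open Groth.Agent.LoccohB TenCx

variable {A : Type u} [CommRing A]

/-- index set of the nonzero summands -/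
structure Ind (b c n : ℤ) where
  p : ℤ
  q : ℤ
  h : p + q = n
  hh : p ≤ b ∧ q ≤ c

instance (b c n : ℤ) : Finite (Ind b c n) := by
  let φ : Ind b c n → Set.Icc (n - c) b := fun x => ⟨x.p, by
    obtain ⟨p, q, h1, h2, h3⟩ := x
    constructor <;> dsimp at * <;> omega⟩
  refine Finite.of_injective φ ?_
  rintro ⟨p, q, h1, h2⟩ ⟨p', q', h1', h2'⟩ h
  have h4 : p = p' := congrArg (fun x => x.1) h
  subst h4
  have : q = q' := by omega
  subst this
  rfl

noncomputable instance (b c n : ℤ) : Fintype (Ind b c n) := Fintype.ofFinite _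

variable (E F : DRing.Cx A)

/-- the product of the nonzero summands -/
abbrev Tgt (b c n : ℤ) : Type u := ∀ x : Ind b c n, TensorProduct A (E.X x.p) (F.X x.q)

open scoped Classical in
/-- the projection -/
noncomputable def fwd (b c n : ℤ) : (E ⊗ F : DRing.Cx A).X n ⟶ ModuleCat.of A (Tgt E F b c n) :=
  descT (fun p q h => if hh : p ≤ b ∧ q ≤ c then
    (TensorProduct.mk A (E.X p) (F.X q)).compr₂
      (LinearMap.single A (fun x : Ind b c n => TensorProduct A (E.X x.p) (F.X x.q)) ⟨p, q, h, hh⟩) else 0)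

/-- the inclusion -/
noncomputable def bwd (b c n : ℤ) : ModuleCat.of A (Tgt E F b c n) ⟶ (E ⊗ F : DRing.Cx A).X n :=
  ModuleCat.ofHom (∑ x : Ind b c n, (tι E F x.p x.q n x.h).hom.comp (LinearMap.proj x))

variable {E F} {b c : ℤ} (hE : DRing.VanishesAbove E b) (hF : DRing.VanishesAbove F c) (n : ℤ)

include hE hF in
lemma fwd_bwd : fwd E F b c n ≫ bwd E F b c n = 𝟙 _ := by
  classical
  refine hom_ext_tmk fun p q h x y => ?_
  rw [ModuleCat.comp_apply]
  change (bwd E F b c n).hom ((fwd E F b c n).hom (tmk E F p q n h x y)) = tmk E F p q n h x y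
  rw [fwd, descT_tmk]
  split_ifs with hh
  · change (bwd E F b c n).hom (Pi.single (⟨p, q, h, hh⟩ : Ind b c n) (x ⊗ₜ[A] y)) = _
    change (∑ x : Ind b c n, (tι E F x.p x.q n x.h).hom.comp (LinearMap.proj x)) _ = _
    rw [LinearMap.sum_apply, Finset.sum_eq_single (⟨p, q, h, hh⟩ : Ind b c n)]
    · rw [LinearMap.comp_apply, LinearMap.proj_apply, Pi.single_eq_same]
      rfl
    · intro z _ hz
      rw [LinearMap.comp_apply, LinearMap.proj_apply, Pi.single_eq_of_ne hz, map_zero]
    · intro h'; exact absurd (Finset.mem_univ _) h'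
  · have h0 : x = 0 ∨ y = 0 := by
      by_cases hp : p ≤ b
      · right
        have : Subsingleton (F.X q) := ModuleCat.isZero_iff_subsingleton.1 (hF q (by
          by_contra hq; exact hh ⟨hp, by omega⟩))
        exact Subsingleton.elim _ _
      · left
        have : Subsingleton (E.X p) := ModuleCat.isZero_iff_subsingleton.1 (hE p (by omega))
        exact Subsingleton.elim _ _
    rcases h0 with rfl | rfl
    · simp
    · simp

lemma bwd_fwd : bwd E F b c n ≫ fwd E F b c n = 𝟙 _ := by
  classical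
  apply ModuleCat.hom_ext
  refine LinearMap.pi_ext' fun z => ?_
  refine TensorProduct.ext' fun x y => ?_
  change (fwd E F b c n).hom ((bwd E F b c n).hom (Pi.single z (x ⊗ₜ[A] y))) = Pi.single z (x ⊗ₜ[A] y)
  have h1 : (bwd E F b c n).hom (Pi.single z (x ⊗ₜ[A] y)) = tmk E F z.p z.q n z.h x y := by
    change (∑ x : Ind b c n, (tι E F x.p x.q n x.h).hom.comp (LinearMap.proj x)) _ = _
    rw [LinearMap.sum_apply, Finset.sum_eq_single z]
    · rw [LinearMap.comp_apply, LinearMap.proj_apply, Pi.single_eq_same]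
      rfl
    · intro w _ hw
      rw [LinearMap.comp_apply, LinearMap.proj_apply, Pi.single_eq_of_ne hw, map_zero]
    · intro h'; exact absurd (Finset.mem_univ _) h'
  rw [h1, fwd, descT_tmk, dif_pos z.hh]
  rfl

/-- the terms of the tensor product of bounded above complexes -/
noncomputable def termIso : (E ⊗ F : DRing.Cx A).X n ≅ ModuleCat.of A (Tgt E F b c n) where
  hom := fwd E F b c n
  inv := bwd E F b c n
  hom_inv_id := fwd_bwd hE hF n
  inv_hom_id := bwd_fwd n

include hE hF in
lemma finite_tensor (h1 : ∀ i, Module.Finite A (E.X i)) (h2 : ∀ i, Module.Finite A (F.X i)) :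
    Module.Finite A ((E ⊗ F : DRing.Cx A).X n) := by
  have : Module.Finite A (Tgt E F b c n) := by
    have : ∀ x : Ind b c n, Module.Finite A (TensorProduct A (E.X x.p) (F.X x.q)) := fun x => inferInstance
    infer_instance
  exact Module.Finite.equiv (termIso hE hF n).symm.toLinearEquiv

include hE hF in
lemma free_tensor (h1 : ∀ i, Module.Free A (E.X i)) (h2 : ∀ i, Module.Free A (F.X i)) :
    Module.Free A ((E ⊗ F : DRing.Cx A).X n) := by
  have : Module.Free A (Tgt E F b c n) := by
    have : ∀ x : Ind b c n, Module.Free A (TensorProduct A (E.X x.p) (F.X x.q)) := fun x => inferInstance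
    infer_instance
  exact Module.Free.of_equiv (termIso hE hF n).symm.toLinearEquiv

include hE hF in
lemma vanishesAbove_tensor : DRing.VanishesAbove (E ⊗ F : DRing.Cx A) (b + c) := by
  intro n hn
  refine IsZero.of_iso ?_ (termIso hE hF n)
  rw [ModuleCat.isZero_iff_subsingleton]
  have : IsEmpty (Ind b c n) := ⟨fun x => by obtain ⟨p, q, h1, h2, h3⟩ := x; omega⟩
  exact inferInstanceAs (Subsingleton (Tgt E F b c n))

/-- `K ⊗^L L` is pseudo-coherent if both are. -/
theorem isPseudoCoherent'_LTensorCx (K : Dual.D A) (hK : DRing.IsPseudoCoherent' A K) (L : DRing.Cx A)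
    (hL : DRing.IsPseudoCoherent' A (DRing.toD L)) [DRing.HasLTensorCx A L] :
    DRing.IsPseudoCoherent' A ((DRing.LTensorCx A L).obj K) := by
  obtain ⟨E, b, hE, hE', ⟨e⟩⟩ := hK
  obtain ⟨F, c, hF, hF', ⟨e'⟩⟩ := hL
  have : E.IsKProjective := PerfTri.isKProjective_of_vanishesAbove hE fun i => by
    have := (hE' i).2
    infer_instance
  have := LTen.hasLTensorCx (A := A) F
  obtain ⟨φ⟩ := LTen.ltenCongr (E := L) (E' := F) e'.symm
  refine ⟨(E ⊗ F : DRing.Cx A), b + c, vanishesAbove_tensor hE hF, fun i =>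
    ⟨finite_tensor hE hF i (fun i => (hE' i).1) (fun i => (hF' i).1),
      free_tensor hE hF i (fun i => (hE' i).2) (fun i => (hF' i).2)⟩, ⟨?_⟩⟩
  exact (LTen.ltenIso F E).symm ≪≫ (DRing.LTensorCx A F).mapIso e ≪≫ (φ.app K).symm

end K230.TenFree
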