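import Groth.Agent.DRing.K230.HExact
import Groth.Agent.DRing.K230.DCLink
import Groth.Agent.DRing.K229.Devissage
import Groth.Agent.PerfB.BoundedInd
import Groth.Agent.LoccohB.DualShift
import Mathlib.Algebra.Homology.DerivedCategory.ExactFunctor
import Mathlib.RingTheory.Regular.RegularSequence
import Mathlib.Algebra.Module.Torsion.Basic
import Mathlib.RingTheory.Nilpotent.Lemmas
import Groth.Prelude.Def_DDual2

/-!
# Objects orthogonal to bounded torsion objects, and derived complete objects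

Main result `subsingleton_HD_of_good`.
-/

set_option autoImplicit false

universe u

open CategoryTheory CategoryTheory.Limits CategoryTheory.Pretriangulated

attribute [local instance] HasDerivedCategory.standard

namespace K230.TorsOrth

open DerivedCategory K230.HExact K230.DCSeq Groth.Agent.LoccohB

section Five

variable {A : Type*} [CommRing A] {f : A} {M₁ M₂ M₃ M₄ M₅ : Type*} [AddCommGroup M₁] [Module A M₁]
  [AddCommGroup M₂] [Module A M₂] [AddCommGroup M₃] [Module A M₃] [AddCommGroup M₄] [Module A M₄]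
  [AddCommGroup M₅] [Module A M₅]

lemma dc_of_exact_five (h1 : DC f M₁) (h2 : DC f M₂) (h4 : DC f M₄) (h5 : DC f M₅)
    (u : M₁ →ₗ[A] M₂) (v : M₂ →ₗ[A] M₃) (w : M₃ →ₗ[A] M₄) (t : M₄ →ₗ[A] M₅)
    (e1 : Function.Exact u v) (e2 : Function.Exact v w) (e3 : Function.Exact w t) : DC f M₃ := by
  have hK : DC f (LinearMap.range v) :=
    h1.of_exact_right h2 u v.rangeRestrict v.surjective_rangeRestrict (fun y => by
      rw [← LinearMap.mem_ker, LinearMap.ker_rangeRestrict]
      exact e1 y)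
  have hL : DC f (LinearMap.ker t) := h4.ker h5 t
  let w' : M₃ →ₗ[A] LinearMap.ker t := w.codRestrict _ (fun x => e3.apply_apply_eq_zero x)
  refine hK.of_exact_middle hL (LinearMap.range v).subtype w' (Submodule.injective_subtype _) ?_ ?_
  · rintro ⟨y, hy⟩
    obtain ⟨x, rfl⟩ := (e3 y).1 hy
    exact ⟨x, rfl⟩
  · intro x
    have h6 : w' x = 0 ↔ w x = 0 := by
      rw [← Subtype.coe_inj]; rfl
    rw [h6, e2 x]
    exact ⟨fun ⟨y, hy⟩ => ⟨⟨x, ⟨y, hy⟩⟩, rfl⟩, fun ⟨⟨z, ⟨y, hy⟩⟩, hz⟩ => ⟨y, by rw [hy]; exact hz⟩⟩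

end Five

variable {A : Type u} [CommRing A]

/-- the objects to which `K` has no nonzero morphism -/
def orth (K : Dual.D A) : ObjectProperty (Dual.D A) := fun Y => ∀ g : K ⟶ Y, g = 0

instance (K : Dual.D A) : (orth K).IsClosedUnderIsomorphisms where
  of_iso e h g := by
    have := h (g ≫ e.inv)
    rw [← cancel_mono e.inv, this, zero_comp]

open scoped ZeroObject in
instance (K : Dual.D A) : (orth K).ContainsZero where
  exists_zero := ⟨0, isZero_zero _, fun _ => (isZero_zero _).eq_of_tgt _ _⟩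

lemma orth_ext (K : Dual.D A) (T : Triangle (Dual.D A)) (hT : T ∈ distTriang (Dual.D A)) (h1 : orth K T.obj₁)
    (h3 : orth K T.obj₃) : orth K T.obj₂ := fun g => by
  obtain ⟨g', hg'⟩ := Triangle.coyoneda_exact₂ _ hT g (h3 _)
  rw [hg', h1 g', zero_comp]

instance (K : Dual.D A) : (orth K).IsTriangulatedClosed₂ where
  ext₂' T hT h₁ h₃ := ObjectProperty.le_isoClosure _ _ (orth_ext K T hT h₁ h₃)

section Base

variable (I : Ideal A) (K : Dual.D A)

/-- `K` has no morphism to objects of `D^{≥ 1}(A/I)` -/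
def BaseHyp : Prop := ∀ (L : Dual.D (A ⧸ I)), L.IsGE 1 →
  orth K ((DRing.restrictD (Ideal.Quotient.mk I)).obj L)

variable {I K}

lemma orth_single_of_killed (hK : BaseHyp I K) (N : ModuleCat.{u} A) (hN : ∀ a ∈ I, ∀ x : N, a • x = 0) (i : ℤ)
    (hi : 1 ≤ i) : orth K ((singleFunctor (ModuleCat.{u} A) i).obj N) := by
  let inst : Module (A ⧸ I) N := Module.IsTorsionBySet.module (R := A) (M := N) (I := I)
    (fun x a => hN a.1 a.2 x)
  let N' : ModuleCat.{u} (A ⧸ I) := ModuleCat.of (A ⧸ I) N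
  let e0 : ((ModuleCat.restrictScalars.{u} (Ideal.Quotient.mk I)).obj N') ≃ₗ[A] N :=
    { AddEquiv.refl N with
        map_smul' := fun a x => rfl }
  let e : (ModuleCat.restrictScalars.{u} (Ideal.Quotient.mk I)).obj N' ≅ N := e0.toModuleIso
  have h1 : ((singleFunctor (ModuleCat.{u} (A ⧸ I)) i).obj N').IsGE 1 :=
    TStructure.t.isGE_of_ge _ 1 i hi
  have h2 := hK _ h1
  exact (orth K).prop_of_iso (((ModuleCat.restrictScalars.{u}
    (Ideal.Quotient.mk I)).mapDerivedCategorySingleFunctor i).app N' ≪≫ (singleFunctor (ModuleCat.{u} A) i).mapIso e) h2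

lemma orth_shift_of_killed (hK : BaseHyp I K) (N : ModuleCat.{u} A) (hN : ∀ a ∈ I, ∀ x : N, a • x = 0) (i : ℤ)
    (hi : 1 ≤ i) : orth K (((singleFunctor (ModuleCat.{u} A) 0).obj N)⟦-i⟧) :=
  (orth K).prop_of_iso (((DerivedCategory.singleFunctors (ModuleCat.{u} A)).shiftIso (-i) i 0 (by simp)).app N).symm
    (orth_single_of_killed hK N hN i hi)

lemma orth_shift_of_pow_killed (hK : BaseHyp I K) (i : ℤ) (hi : 1 ≤ i) (m : ℕ) : ∀ (N : Type u) [AddCommGroup N]
    [Module A N], (I ^ m • (⊤ : Submodule A N) = ⊥) → orth K ((Dual.inD A N)⟦-i⟧) := by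
  induction m with
  | zero =>
    intro N _ _ h
    rw [pow_zero, Ideal.one_eq_top, Submodule.top_smul] at h
    have : Subsingleton N := (Submodule.subsingleton_iff A).1 (subsingleton_of_bot_eq_top h.symm)
    have h0 : IsZero ((Dual.inD A N)⟦-i⟧) :=
      (shiftFunctor (Dual.D A) (-i)).map_isZero ((singleFunctor (ModuleCat.{u} A) 0).map_isZero
        (ModuleCat.isZero_of_subsingleton _))
    exact fun g => h0.eq_of_tgt _ _
  | succ m ih =>
    intro N _ _ h
    let N₁ : Submodule A N := I • ⊤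
    have h1 : orth K ((Dual.inD A N₁)⟦-i⟧) := by
      refine ih N₁ ?_
      rw [eq_bot_iff]
      rintro x hx
      have h3 : (x : N) ∈ I ^ m • N₁ := by
        have h4 := Submodule.mem_map_of_mem (f := N₁.subtype) hx
        rw [Submodule.map_smul''] at h4
        exact Submodule.smul_mono le_rfl (by rw [Submodule.map_top, Submodule.range_subtype]) h4
      rw [← Submodule.mul_smul, ← pow_succ, h, Submodule.mem_bot] at h3
      rw [Submodule.mem_bot]
      exact Subtype.ext h3
    have h2 : orth K ((Dual.inD A (N ⧸ N₁))⟦-i⟧) := by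
      refine orth_shift_of_killed hK (ModuleCat.of A (N ⧸ N₁)) (fun a ha x => ?_) i hi
      obtain ⟨x, rfl⟩ := Submodule.mkQ_surjective _ x
      change a • N₁.mkQ x = 0
      rw [← map_smul, Submodule.mkQ_apply, Submodule.Quotient.mk_eq_zero]
      exact Submodule.smul_mem_smul ha Submodule.mem_top
    have hS : (ShortComplex.mk (ModuleCat.ofHom N₁.subtype) (ModuleCat.ofHom N₁.mkQ)
        (by ext x; simp)).ShortExact :=
      { exact := (ShortComplex.ShortExact.moduleCat_exact_iff_function_exact _).2 (fun y => by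
          change N₁.mkQ y = 0 ↔ _
          rw [Submodule.mkQ_apply, Submodule.Quotient.mk_eq_zero]
          exact ⟨fun hy => ⟨⟨y, hy⟩, rfl⟩, fun ⟨x, hx⟩ => hx ▸ x.2⟩)
        mono_f := (ModuleCat.mono_iff_injective _).2 (Submodule.injective_subtype _)
        epi_g := (ModuleCat.epi_iff_surjective _).2 (Submodule.mkQ_surjective _) }
    exact orth_ext K _ (Triangle.shift_distinguished _ hS.singleTriangle_distinguished (-i)) h1 h2

end Base

/-- every element of `l` has a power killing the cohomology of `Y` -/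
def TorsB (l : List A) (Y : Dual.D A) : Prop :=
  ∀ a ∈ l, ∃ n : ℕ, ∀ (i : ℤ) (x : Dual.HD A Y i), a ^ n • x = 0

/-- bounded torsion objects with cohomology in degrees `> c` -/
structure Bd (c : ℤ) (l : List A) (Y : Dual.D A) : Prop where
  above : ∃ b : ℤ, ∀ i : ℤ, b < i → Subsingleton (Dual.HD A Y i)
  below : ∀ i : ℤ, i ≤ c → Subsingleton (Dual.HD A Y i)
  tors : TorsB l Y

lemma Bd.orth_of_baseHyp {l : List A} {K Y : Dual.D A} (hK : BaseHyp (Ideal.ofList l) K) (hY : Bd 0 l Y) :
    orth K Y := by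
  obtain ⟨b, hb⟩ := hY.above
  -- a power of the ideal kills the cohomology
  obtain ⟨m, hm⟩ : ∃ m : ℕ, ∀ (i : ℤ) (a : A), a ∈ (Ideal.ofList l) ^ m → ∀ x : Dual.HD A Y i, a • x = 0 := by
    let J : Ideal A := ⨅ i : ℤ, Module.annihilator A (Dual.HD A Y i)
    have h1 : Ideal.ofList l ≤ J.radical := by
      rw [Ideal.ofList, Ideal.span_le]
      intro a ha
      obtain ⟨n, hn⟩ := hY.tors a ha
      refine ⟨n, ?_⟩
      rw [Ideal.mem_iInf]
      exact fun i => Module.mem_annihilator.2 (hn i)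
    have hfg : (Ideal.ofList l).FG := by
      classical
      exact ⟨l.toFinset, by simp [Ideal.ofList]⟩
    obtain ⟨m, hm⟩ := Ideal.exists_pow_le_of_le_radical_of_fg h1 hfg
    exact ⟨m, fun i a ha x => Module.mem_annihilator.1 ((Ideal.mem_iInf.1 (hm ha)) i) x⟩
  refine K229.Devissage.homology (orth K) Y 1 b (fun i hi => ?_) (fun i => ?_)
  · rcases hi with hi | hi
    · have := hY.below i (by omega)
      exact ModuleCat.isZero_of_subsingleton _
    · have := hb i hi
      exact ModuleCat.isZero_of_subsingleton _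
  · by_cases hi : 1 ≤ i
    · refine (orth K).prop_of_iso (((DerivedCategory.singleFunctors (ModuleCat.{u} A)).shiftIso (-i) i 0
        (by simp)).app ((homologyFunctor (ModuleCat.{u} A) i).obj Y)) ?_
      refine orth_shift_of_pow_killed hK i hi m (Dual.HD A Y i) ?_
      rw [eq_bot_iff, Submodule.smul_le]
      intro a ha x _
      rw [Submodule.mem_bot]
      exact hm i a ha x
    · have := hY.below i (by omega)
      have h0 : IsZero ((singleFunctor (ModuleCat.{u} A) i).obj ((homologyFunctor (ModuleCat.{u} A) i).obj Y)) :=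
        (singleFunctor (ModuleCat.{u} A) i).map_isZero (ModuleCat.isZero_of_subsingleton _)
      exact fun g => h0.eq_of_tgt _ _

section Step

variable {f : A} {X C Y D : Dual.D A}

/-- the connecting map of a cone of `f` -/
noncomputable def MulCone.dH (d : MulCone f Y D) (n₀ n₁ : ℤ) (h : n₀ + 1 = n₁) :
    Dual.HD A D n₀ →ₗ[A] Dual.HD A Y n₁ := dlt (Triangle.mk (f • 𝟙 Y) d.p d.δ) n₀ n₁ h

lemma MulCone.ex₁ (d : MulCone f Y D) (n₀ n₁ : ℤ) (h : n₀ + 1 = n₁) :
    Function.Exact (MulCone.dH d n₀ n₁ h) (LinearMap.lsmul A (Dual.HD A Y n₁) f) := by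
  have h1 : Function.Exact (MulCone.dH d n₀ n₁ h) (hmap (f • 𝟙 Y) n₁) := exact₁ _ d.dist n₀ n₁ h
  intro y
  rw [← h1 y, hmap_smul_id]
  rfl

lemma MulCone.ex₂ (d : MulCone f Y D) (n : ℤ) :
    Function.Exact (LinearMap.lsmul A (Dual.HD A Y n) f) (hmap d.p n) := by
  have h1 : Function.Exact (hmap (f • 𝟙 Y) n) (hmap d.p n) := exact₂ _ d.dist n
  intro y
  rw [h1 y]
  simp only [Set.mem_range, hmap_smul_id]
  rfl

lemma MulCone.ex₃ (d : MulCone f Y D) (n₀ n₁ : ℤ) (h : n₀ + 1 = n₁) :
    Function.Exact (hmap d.p n₀) (MulCone.dH d n₀ n₁ h) := exact₃ _ d.dist n₀ n₁ h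

lemma MulCone.torsB (d : MulCone f Y D) (l : List A) (h : TorsB l Y) : TorsB (f :: l) D := by
  intro a ha
  rcases List.mem_cons.1 ha with rfl | ha
  · refine ⟨2, fun i x => ?_⟩
    obtain ⟨y, hy⟩ := (MulCone.ex₃ d i (i + 1) rfl (a • x)).1 (by
      rw [map_smul]; exact (MulCone.ex₁ d i (i + 1) rfl).apply_apply_eq_zero x)
    rw [pow_two, mul_smul, ← hy, ← map_smul]
    exact (MulCone.ex₂ d i).apply_apply_eq_zero y
  · obtain ⟨n, hn⟩ := h a ha
    refine ⟨n + n, fun i x => ?_⟩
    obtain ⟨y, hy⟩ := (MulCone.ex₃ d i (i + 1) rfl (a ^ n • x)).1 (by rw [map_smul, hn])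
    rw [pow_add, mul_smul, ← hy, ← map_smul, hn, map_zero]

lemma MulCone.subsingleton (d : MulCone f Y D) (i : ℤ) (h : Subsingleton (Dual.HD A Y i))
    (h' : Subsingleton (Dual.HD A Y (i + 1))) : Subsingleton (Dual.HD A D i) := by
  have key : ∀ x : Dual.HD A D i, x = 0 := by
    intro x
    obtain ⟨y, hy⟩ := (MulCone.ex₃ d i (i + 1) rfl x).1 (h'.elim _ _)
    have : y = 0 := h.elim _ _
    rw [← hy, this, map_zero]
  exact ⟨fun a b => (key a).trans (key b).symm⟩

lemma MulCone.bd (d : MulCone f Y D) (l : List A) (c : ℤ) (h : Bd c l Y) : Bd (c - 1) (f :: l) D where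
  above := by
    obtain ⟨b, hb⟩ := h.above
    exact ⟨b, fun i hi => MulCone.subsingleton d i (hb i hi) (hb (i + 1) (by omega))⟩
  below i hi := MulCone.subsingleton d i (h.below i (by omega)) (h.below (i + 1) (by omega))
  tors := MulCone.torsB d l h.tors

lemma Bd.shift {c : ℤ} {l : List A} {Y : Dual.D A} (h : Bd c l Y) (n : ℤ) : Bd (c - n) l (Y⟦n⟧) where
  above := by
    obtain ⟨b, hb⟩ := h.above
    refine ⟨b - n, fun i hi => ?_⟩
    have := hb (n + i) (by omega)
    exact (DualShift.shiftHD Y n i (n + i) rfl).toLinearEquiv.toEquiv.subsingleton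
  below i hi := by
    have := h.below (n + i) (by omega)
    exact (DualShift.shiftHD Y n i (n + i) rfl).toLinearEquiv.toEquiv.subsingleton
  tors a ha := by
    obtain ⟨m, hm⟩ := h.tors a ha
    refine ⟨m, fun i x => ?_⟩
    let e := (DualShift.shiftHD Y n i (n + i) rfl).toLinearEquiv
    apply e.injective
    rw [map_smul, map_zero]
    exact hm _ _

/-- `X` is left orthogonal to bounded torsion objects in degrees `≥ 1` -/
def Good (l : List A) (X : Dual.D A) : Prop := ∀ Y : Dual.D A, Bd 0 l Y → orth X Y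

lemma orth_shift_one {X D : Dual.D A} (h : orth X (D⟦(-1 : ℤ)⟧)) (g : X⟦(1 : ℤ)⟧ ⟶ D) : g = 0 := by
  apply (shiftFunctor (Dual.D A) (-1 : ℤ)).map_injective
  rw [Functor.map_zero]
  have h1 := h ((shiftShiftNeg X (1 : ℤ)).inv ≫ g⟦(-1 : ℤ)⟧')
  have h2 : (shiftShiftNeg X (1 : ℤ)).hom ≫ (shiftShiftNeg X (1 : ℤ)).inv ≫ g⟦(-1 : ℤ)⟧' = 0 := by
    rw [h1, comp_zero]
  rwa [Iso.hom_inv_id_assoc] at h2

lemma Good.cone {l : List A} (c : MulCone f X C) (h : Good (f :: l) X) : Good l C := by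
  intro Y hY g
  obtain ⟨D, ⟨d⟩⟩ := exists_mulCone f Y
  refine c.orth d (fun g' => orth_shift_one (h _ ?_) g') g
  exact (MulCone.bd d l 0 hY).shift (-1)

/-- Main result: left orthogonality to bounded torsion objects of `D^{≥ 1}` plus derived completeness
implies being in `D^{≤ 0}`. -/
theorem subsingleton_HD_of_good (l : List A) : ∀ (X : Dual.D A), Good l X →
    (∀ a ∈ l, ∀ n : ℤ, DC a (Dual.HD A X n)) → ∀ i : ℤ, 1 ≤ i → Subsingleton (Dual.HD A X i) := by
  induction l with
  | nil =>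
    intro X hX _ i hi
    refine subsingleton_HD_of_injective X i (fun E _ g => hX _ ?_ g)
    have hE : ∀ j : ℤ, j ≠ i → Subsingleton (Dual.HD A ((singleFunctor (ModuleCat.{u} A) i).obj E) j) := by
      intro j hj
      rw [← ModuleCat.isZero_iff_subsingleton]
      rcases lt_or_gt_of_ne hj with h | h
      · exact DerivedCategory.isZero_of_isGE _ i j h
      · exact DerivedCategory.isZero_of_isLE _ i j h
    exact ⟨⟨i, fun j hj => hE j (by omega)⟩, fun j hj => hE j (by omega), fun a ha => by simp at ha⟩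
  | cons f l ih =>
    intro X hX hdc i hi
    obtain ⟨C, ⟨c⟩⟩ := exists_mulCone f X
    have h1 : Subsingleton (Dual.HD A C i) := by
      refine ih C (Good.cone c hX) (fun a ha n => ?_) i hi
      have ha' := hdc a (List.mem_cons_of_mem _ ha)
      exact dc_of_exact_five (ha' n) (ha' n) (ha' (n + 1)) (ha' (n + 1)) _ _ _ _
        (MulCone.ex₂ c n) (MulCone.ex₃ c n (n + 1) rfl) (MulCone.ex₁ c n (n + 1) rfl)
    refine (hdc f List.mem_cons_self i).subsingleton (fun x => ?_)
    obtain ⟨y, hy⟩ := (MulCone.ex₂ c i x).1 (h1.elim _ _)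
    exact ⟨y, hy.symm⟩

end Step

end K230.TorsOrth
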